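import Cfsg.Agent.GLn.CentDet

/-!
Factorisations of endomorphisms with prescribed characteristic polynomials: block maps,
non-derogatory maps, avoidance of hyperplanes.
-/

set_option autoImplicit false

open Polynomial Module

namespace Cfsg.Agent.Fac

open Cfsg.Agent.GLn

section Avoid
variable {F : Type*} [Field F] {E : Type*} [AddCommGroup E] [Module F E]

theorem exists_affine_ne_zero {ι : Type*} (s : Finset ι) (f : ι → E →ₗ[F] F) (a : ι → F)
    (h : ∀ i ∈ s, f i ≠ 0 ∨ a i ≠ 0) (T : Finset F) (hT : s.card < T.card) :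
    ∃ z, ∀ i ∈ s, f i z + a i ≠ 0 := by
  classical
  induction s using Finset.induction_on with
  | empty => exact ⟨0, by simp⟩
  | insert j s hj ih =>
    rw [Finset.card_insert_of_notMem hj] at hT
    obtain ⟨p, hp⟩ := ih (fun i hi => h i (Finset.mem_insert_of_mem hi)) (by omega)
    obtain ⟨p', hp'⟩ : ∃ p', f j p' + a j ≠ 0 := by
      by_cases ha : a j = 0
      · have := (h j (Finset.mem_insert_self _ _)).resolve_right (by simp [ha])
        obtain ⟨x, hx⟩ := DFunLike.ne_iff.mp this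
        exact ⟨x, by simpa [ha] using hx⟩
      · exact ⟨0, by simpa using ha⟩
    let bad : ι → F := fun i => -(f i p + a i) / (f i p' - f i p)
    have : ¬ T ⊆ (insert j s).image bad := fun hsub => by
      have h1 := Finset.card_le_card hsub
      have h2 := Finset.card_image_le (s := insert j s) (f := bad)
      rw [Finset.card_insert_of_notMem hj] at h2
      omega
    obtain ⟨t, -, ht⟩ := Finset.not_subset.mp this
    refine ⟨p + t • (p' - p), fun i hi hz => ?_⟩
    simp only [map_add, map_smul, map_sub, smul_eq_mul] at hz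
    by_cases hd : f i p' - f i p = 0
    · rw [hd, mul_zero, add_zero] at hz
      rcases Finset.mem_insert.mp hi with rfl | hi'
      · exact hp' (by rw [sub_eq_zero.mp hd]; exact hz)
      · exact hp i hi' hz
    · refine ht (Finset.mem_image.mpr ⟨i, hi, ?_⟩)
      simp only [bad]
      field_simp
      linear_combination -hz

theorem exists_linear_ne_zero {ι : Type*} (s : Finset ι) (f : ι → E →ₗ[F] F)
    (h : ∀ i ∈ s, f i ≠ 0) (T : Finset F) (hT : s.card ≤ T.card) :
    ∃ z, ∀ i ∈ s, f i z ≠ 0 := by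
  classical
  rcases s.eq_empty_or_nonempty with rfl | ⟨j, hj⟩
  · exact ⟨0, by simp⟩
  obtain ⟨x, hx⟩ := DFunLike.ne_iff.mp (h j hj)
  simp only [LinearMap.zero_apply] at hx
  obtain ⟨z, hz⟩ := exists_affine_ne_zero (s.erase j)
    (fun i => (f i).domRestrict (LinearMap.ker (f j))) (fun i => f i x) (by
      intro i hi
      by_contra hc
      push Not at hc
      apply h i (Finset.mem_of_mem_erase hi)
      ext y
      have := LinearMap.congr_fun hc.1 ⟨y - (f j y / f j x) • x, by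
        simp only [LinearMap.mem_ker, map_sub, map_smul, smul_eq_mul]; field_simp; ring⟩
      simpa [hc.2] using this) T (by
      rw [Finset.card_erase_of_mem hj]
      have := Finset.card_pos.mpr ⟨j, hj⟩
      omega)
  refine ⟨z + x, fun i hi => ?_⟩
  by_cases hij : i = j
  · subst hij
    have := z.2
    rw [LinearMap.mem_ker] at this
    simpa [this] using hx
  · simpa using hz i (Finset.mem_erase.mpr ⟨hij, hi⟩)

/-- `F` has at least `k` elements. -/
def Big (F : Type*) (k : ℕ) : Prop := ∃ T : Finset F, k ≤ T.card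

theorem big_two : Big F 2 := by
  classical
  exact ⟨{0, 1}, by rw [Finset.card_pair zero_ne_one]⟩

theorem Big.mono {F : Type*} {k l : ℕ} (h : Big F k) (hl : l ≤ k) : Big F l :=
  let ⟨T, hT⟩ := h; ⟨T, hl.trans hT⟩

theorem big_of_card {F : Type*} [Fintype F] {k : ℕ} (h : k ≤ Fintype.card F) : Big F k :=
  ⟨Finset.univ, h⟩

theorem Big.exists_notMem {F : Type*} {k : ℕ} (h : Big F k) (s : Finset F) (hs : s.card < k) :
    ∃ t, t ∉ s := by
  obtain ⟨T, hT⟩ := h
  obtain ⟨t, -, ht⟩ := Finset.exists_mem_notMem_of_card_lt_card (lt_of_lt_of_le hs hT)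
  exact ⟨t, ht⟩

theorem Big.exists_ne₂ {F : Type*} (h : Big F 3) (a b : F) : ∃ t, t ≠ a ∧ t ≠ b := by
  classical
  obtain ⟨t, ht⟩ := h.exists_notMem {a, b} (lt_of_le_of_lt Finset.card_le_two (by norm_num))
  exact ⟨t, by simpa using ht⟩

theorem Big.exists_ne₃ {F : Type*} (h : Big F 4) (a b c : F) : ∃ t, t ≠ a ∧ t ≠ b ∧ t ≠ c := by
  classical
  obtain ⟨t, ht⟩ := h.exists_notMem {a, b, c} (lt_of_le_of_lt Finset.card_le_three (by norm_num))
  exact ⟨t, by simpa using ht⟩

theorem exists_lin₂ {f g : E →ₗ[F] F} (hf : f ≠ 0) (hg : g ≠ 0) : ∃ z, f z ≠ 0 ∧ g z ≠ 0 := by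
  obtain ⟨T, hT⟩ := big_two (F := F)
  obtain ⟨z, hz⟩ := exists_linear_ne_zero (Finset.univ : Finset (Fin 2)) ![f, g]
    (by intro i _; fin_cases i <;> simpa) T (by simpa)
  exact ⟨z, hz 0 (by simp), hz 1 (by simp)⟩

theorem exists_lin₃ (h : Big F 3) {f g k : E →ₗ[F] F} (hf : f ≠ 0) (hg : g ≠ 0) (hk : k ≠ 0) :
    ∃ z, f z ≠ 0 ∧ g z ≠ 0 ∧ k z ≠ 0 := by
  obtain ⟨T, hT⟩ := h
  obtain ⟨z, hz⟩ := exists_linear_ne_zero (Finset.univ : Finset (Fin 3)) ![f, g, k]
    (by intro i _; fin_cases i <;> simpa) T (by simpa)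
  exact ⟨z, hz 0 (by simp), hz 1 (by simp), hz 2 (by simp)⟩

theorem exists_lin₄ (h : Big F 4) {f g k l : E →ₗ[F] F} (hf : f ≠ 0) (hg : g ≠ 0) (hk : k ≠ 0)
    (hl : l ≠ 0) : ∃ z, f z ≠ 0 ∧ g z ≠ 0 ∧ k z ≠ 0 ∧ l z ≠ 0 := by
  obtain ⟨T, hT⟩ := h
  obtain ⟨z, hz⟩ := exists_linear_ne_zero (Finset.univ : Finset (Fin 4)) ![f, g, k, l]
    (by intro i _; fin_cases i <;> simpa) T (by simpa)
  exact ⟨z, hz 0 (by simp), hz 1 (by simp), hz 2 (by simp), hz 3 (by simp)⟩

theorem exists_aff₂ (h : Big F 3) {f g : E →ₗ[F] F} {a b : F} (hf : f ≠ 0 ∨ a ≠ 0)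
    (hg : g ≠ 0 ∨ b ≠ 0) : ∃ z, f z + a ≠ 0 ∧ g z + b ≠ 0 := by
  obtain ⟨T, hT⟩ := h
  obtain ⟨z, hz⟩ := exists_affine_ne_zero (Finset.univ : Finset (Fin 2)) ![f, g] ![a, b]
    (by intro i _; fin_cases i <;> simpa) T (by simpa)
  exact ⟨z, hz 0 (by simp), hz 1 (by simp)⟩

theorem exists_aff₃ (h : Big F 4) {f g k : E →ₗ[F] F} {a b c : F} (hf : f ≠ 0 ∨ a ≠ 0)
    (hg : g ≠ 0 ∨ b ≠ 0) (hk : k ≠ 0 ∨ c ≠ 0) :
    ∃ z, f z + a ≠ 0 ∧ g z + b ≠ 0 ∧ k z + c ≠ 0 := by
  obtain ⟨T, hT⟩ := h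
  obtain ⟨z, hz⟩ := exists_affine_ne_zero (Finset.univ : Finset (Fin 3)) ![f, g, k] ![a, b, c]
    (by intro i _; fin_cases i <;> simpa) T (by simpa)
  exact ⟨z, hz 0 (by simp), hz 1 (by simp), hz 2 (by simp)⟩

end Avoid

section Blk
variable {F : Type*} [Field F] {V W : Type*} [AddCommGroup V] [Module F V] [AddCommGroup W]
  [Module F W]

/-- Block endomorphism of `V × W`. -/
def blk (A : End F V) (Z : W →ₗ[F] V) (Y : V →ₗ[F] W) (D : End F W) : End F (V × W) :=
  LinearMap.prod (LinearMap.coprod A Z) (LinearMap.coprod Y D)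

@[simp] theorem blk_apply (A : End F V) (Z : W →ₗ[F] V) (Y : V →ₗ[F] W) (D : End F W)
    (x : V × W) : blk A Z Y D x = (A x.1 + Z x.2, Y x.1 + D x.2) := rfl

theorem prodMap_eq_blk (A : End F V) (D : End F W) : A.prodMap D = blk A 0 0 D := by
  refine LinearMap.ext fun x => ?_
  simp

theorem blk_mul (A A' : End F V) (Z Z' : W →ₗ[F] V) (Y Y' : V →ₗ[F] W) (D D' : End F W) :
    blk A Z Y D * blk A' Z' Y' D' =
      blk (A * A' + Z ∘ₗ Y') (A ∘ₗ Z' + Z ∘ₗ D') (Y ∘ₗ A' + D ∘ₗ Y') (Y ∘ₗ Z' + D * D') := by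
  refine LinearMap.ext fun x => ?_
  simp only [End.mul_apply, blk_apply, map_add, LinearMap.add_apply, LinearMap.comp_apply,
    Prod.mk.injEq]
  constructor <;> abel

theorem sim_blk_swap (A : End F V) (Z : W →ₗ[F] V) (Y : V →ₗ[F] W) (D : End F W) :
    Sim (blk A Z Y D) (blk D Y Z A) :=
  sim_iff.mpr ⟨LinearEquiv.prodComm F V W, fun x => by simp [add_comm]⟩

variable [FiniteDimensional F V] [FiniteDimensional F W]

theorem charpoly_blk_upper (A : End F V) (Z : W →ₗ[F] V) (D : End F W) :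
    (blk A Z 0 D).charpoly = A.charpoly * D.charpoly := by
  classical
  let b₁ := Module.finBasis F V
  let b₂ := Module.finBasis F W
  have : LinearMap.toMatrix (b₁.prod b₂) (b₁.prod b₂) (blk A Z 0 D) =
      Matrix.fromBlocks (LinearMap.toMatrix b₁ b₁ A) (LinearMap.toMatrix b₂ b₁ Z) 0
        (LinearMap.toMatrix b₂ b₂ D) := by
    ext (i | i) (j | j) <;> simp [LinearMap.toMatrix_apply]
  rw [← LinearMap.charpoly_toMatrix A b₁, ← LinearMap.charpoly_toMatrix D b₂,
    ← LinearMap.charpoly_toMatrix _ (b₁.prod b₂), this, Matrix.charpoly_fromBlocks_zero₂₁]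

theorem charpoly_blk_lower (A : End F V) (Y : V →ₗ[F] W) (D : End F W) :
    (blk A 0 Y D).charpoly = A.charpoly * D.charpoly := by
  rw [(sim_blk_swap A 0 Y D).charpoly, charpoly_blk_upper, mul_comm]

theorem det_eq_of_charpoly_mul {U : Type*} [AddCommGroup U] [Module F U] [FiniteDimensional F U]
    {f : End F U} {A : End F V} {D : End F W} (h : f.charpoly = A.charpoly * D.charpoly) :
    LinearMap.det f = LinearMap.det A * LinearMap.det D := by
  have hn := congrArg natDegree h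
  rw [(LinearMap.charpoly_monic _).natDegree_mul (LinearMap.charpoly_monic _),
    LinearMap.charpoly_natDegree, LinearMap.charpoly_natDegree, LinearMap.charpoly_natDegree] at hn
  rw [LinearMap.det_eq_sign_charpoly_coeff, LinearMap.det_eq_sign_charpoly_coeff,
    LinearMap.det_eq_sign_charpoly_coeff, h, hn, mul_coeff_zero, pow_add]
  ring

theorem det_blk_upper (A : End F V) (Z : W →ₗ[F] V) (D : End F W) :
    LinearMap.det (blk A Z 0 D) = LinearMap.det A * LinearMap.det D :=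
  det_eq_of_charpoly_mul (charpoly_blk_upper A Z D)

theorem det_blk_lower (A : End F V) (Y : V →ₗ[F] W) (D : End F W) :
    LinearMap.det (blk A 0 Y D) = LinearMap.det A * LinearMap.det D :=
  det_eq_of_charpoly_mul (charpoly_blk_lower A Y D)

theorem trace_blk (A : End F V) (Z : W →ₗ[F] V) (Y : V →ₗ[F] W) (D : End F W) :
    LinearMap.trace F _ (blk A Z Y D) = LinearMap.trace F _ A + LinearMap.trace F _ D := by
  classical
  let b₁ := Module.finBasis F V
  let b₂ := Module.finBasis F W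
  have : LinearMap.toMatrix (b₁.prod b₂) (b₁.prod b₂) (blk A Z Y D) =
      Matrix.fromBlocks (LinearMap.toMatrix b₁ b₁ A) (LinearMap.toMatrix b₂ b₁ Z)
        (LinearMap.toMatrix b₁ b₂ Y) (LinearMap.toMatrix b₂ b₂ D) := by
    ext (i | i) (j | j) <;> simp [LinearMap.toMatrix_apply]
  rw [LinearMap.trace_eq_matrix_trace F (b₁.prod b₂), this, LinearMap.trace_eq_matrix_trace F b₁,
    LinearMap.trace_eq_matrix_trace F b₂]
  simp [Matrix.trace]

omit [FiniteDimensional F V] [FiniteDimensional F W] in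
theorem _root_.Cfsg.Agent.GLn.Sim.det {f : End F V} {g : End F W} (h : Sim f g) :
    LinearMap.det f = LinearMap.det g := by
  obtain ⟨e, rfl⟩ := h
  exact (LinearMap.det_conj f e).symm

omit [FiniteDimensional F V] [FiniteDimensional F W] in
theorem _root_.Cfsg.Agent.GLn.Sim.trace {f : End F V} {g : End F W} (h : Sim f g) :
    LinearMap.trace F _ f = LinearMap.trace F _ g := by
  obtain ⟨e, rfl⟩ := h
  exact (LinearMap.trace_conj' f e).symm

omit [FiniteDimensional F V] [FiniteDimensional F W] in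
theorem _root_.Cfsg.Agent.GLn.Sim.finrank {f : End F V} {g : End F W} (h : Sim f g) :
    finrank F V = finrank F W := by
  obtain ⟨e, -⟩ := h
  exact e.finrank_eq

omit [FiniteDimensional F V] [FiniteDimensional F W] in
theorem _root_.Cfsg.Agent.GLn.Sim.prodMap {V' W' : Type*} [AddCommGroup V'] [Module F V']
    [AddCommGroup W'] [Module F W'] {f : End F V} {g : End F W} {f' : End F V'} {g' : End F W'}
    (h : Sim f f') (h' : Sim g g') : Sim (f.prodMap g) (f'.prodMap g') := by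
  obtain ⟨e, he⟩ := sim_iff.mp h
  obtain ⟨e', he'⟩ := sim_iff.mp h'
  exact sim_iff.mpr ⟨e.prodCongr e', fun x => by simp [he, he']⟩

omit [FiniteDimensional F V] [FiniteDimensional F W] in
theorem sim_prodMap_comm (f : End F V) (g : End F W) : Sim (f.prodMap g) (g.prodMap f) :=
  sim_iff.mpr ⟨LinearEquiv.prodComm F V W, fun x => by simp⟩

omit [FiniteDimensional F V] [FiniteDimensional F W] in
theorem sim_prodMap_assoc {U : Type*} [AddCommGroup U] [Module F U] (f : End F V) (g : End F W)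
    (k : End F U) : Sim ((f.prodMap g).prodMap k) (f.prodMap (g.prodMap k)) :=
  sim_iff.mpr ⟨LinearEquiv.prodAssoc F V W U, fun x => by simp⟩

/-- The scalar map on the line. -/
abbrev sc (a : F) : End F F := a • (1 : End F F)

theorem charpoly_sc (a : F) : (sc a).charpoly = X - C a := by
  rw [← LinearMap.charpoly_toMatrix _ (Basis.singleton Unit F), Matrix.charpoly,
    Matrix.det_unique]
  simp

theorem det_sc (a : F) : LinearMap.det (sc a) = a := by
  simp [sc]

theorem trace_sc (a : F) : LinearMap.trace F _ (sc a) = a := by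
  simp [sc]

end Blk

section ND
variable {F : Type*} [Field F] {V W : Type*} [AddCommGroup V] [Module F V] [AddCommGroup W]
  [Module F W]

/-- Every eigenspace is at most a line. -/
def ND (f : End F V) : Prop := ∀ c : F, ∃ w : V, ∀ u, f u = c • u → ∃ s : F, u = s • w

theorem ND.of_sim {f : End F V} {g : End F W} (h : ND f) (hs : Sim f g) : ND g := by
  obtain ⟨e, he⟩ := sim_iff.mp hs
  intro c
  obtain ⟨w, hw⟩ := h c
  refine ⟨e w, fun u hu => ?_⟩
  obtain ⟨u, rfl⟩ := e.surjective u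
  obtain ⟨s, rfl⟩ := hw u (e.injective (by rw [he, hu, map_smul]))
  exact ⟨s, by simp⟩

theorem nd_sc (a : F) : ND (sc a) := fun _ => ⟨1, fun u _ => ⟨u, by simp⟩⟩

/-- The gluing condition at the eigenvalue `c`. -/
def Glued (A : End F V) (Z : W →ₗ[F] V) (D : End F W) (c : F) : Prop :=
  ∀ w, w ≠ 0 → D w = c • w → (∃ u, u ≠ 0 ∧ A u = c • u) → ∀ a, A a + Z w ≠ c • a

theorem nd_blk_upper {A : End F V} {Z : W →ₗ[F] V} {D : End F W} (hA : ND A) (hD : ND D)
    (h : ∀ c, Glued A Z D c) : ND (blk A Z 0 D) := by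
  intro c
  by_cases hu : ∃ u, u ≠ 0 ∧ A u = c • u
  · obtain ⟨w, hw⟩ := hA c
    refine ⟨(w, 0), ?_⟩
    rintro ⟨a, b⟩ hab
    simp only [blk_apply, LinearMap.zero_apply, zero_add, Prod.smul_mk, Prod.mk.injEq] at hab
    have hb : b = 0 := by
      by_contra hb
      exact h c b hb hab.2 hu a hab.1
    subst hb
    obtain ⟨s, rfl⟩ := hw a (by simpa using hab.1)
    exact ⟨s, by simp⟩
  · push Not at hu
    have hu' : ∀ u, A u = c • u → u = 0 := fun u h' => by_contra fun h0 => hu u h0 h'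
    by_cases he : ∃ x : V × W, x.2 ≠ 0 ∧ blk A Z 0 D x = c • x
    · obtain ⟨⟨a₀, b₀⟩, hb₀, h₀⟩ := he
      obtain ⟨w, hw⟩ := hD c
      simp only [blk_apply, LinearMap.zero_apply, zero_add, Prod.smul_mk, Prod.mk.injEq] at h₀
      refine ⟨(a₀, b₀), ?_⟩
      rintro ⟨a, b⟩ hab
      simp only [blk_apply, LinearMap.zero_apply, zero_add, Prod.smul_mk, Prod.mk.injEq] at hab
      obtain ⟨s₀, rfl⟩ := hw b₀ h₀.2
      obtain ⟨s, rfl⟩ := hw b hab.2
      have hs₀ : s₀ ≠ 0 := by rintro rfl; simp at hb₀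
      have e1 : s • w = (s / s₀) • s₀ • w := by rw [smul_smul, div_mul_cancel₀ _ hs₀]
      refine ⟨s / s₀, Prod.ext ?_ e1⟩
      have := hu' (a - (s / s₀) • a₀) (by
        have h1 := hab.1
        rw [e1, map_smul] at h1
        rw [map_sub, map_smul, smul_sub, smul_comm c, ← h₀.1, ← h1, smul_add]
        abel)
      exact sub_eq_zero.mp this
    · push Not at he
      refine ⟨0, ?_⟩
      rintro ⟨a, b⟩ hab
      have hb : b = 0 := by
        by_contra hb
        exact he (a, b) hb hab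
      subst hb
      simp only [blk_apply, LinearMap.zero_apply, zero_add, Prod.smul_mk, Prod.mk.injEq] at hab
      obtain rfl := hu' a (by simpa using hab.1)
      exact ⟨0, by simp⟩

theorem nd_blk_lower {A : End F V} {Y : V →ₗ[F] W} {D : End F W} (hA : ND A) (hD : ND D)
    (h : ∀ c, Glued D Y A c) : ND (blk A 0 Y D) :=
  (nd_blk_upper hD hA h).of_sim (sim_blk_swap _ _ _ _)

theorem isRoot_of_eigen [FiniteDimensional F V] {f : End F V} {c : F} {u : V} (hu : u ≠ 0)
    (h : f u = c • u) : f.charpoly.eval c = 0 :=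
  (Module.End.hasEigenvalue_iff_isRoot_charpoly f c).mp
    (Module.End.hasEigenvalue_of_hasEigenvector ⟨Module.End.mem_eigenspace_iff.mpr h, hu⟩)

theorem exists_eigen_of_isRoot [FiniteDimensional F V] {f : End F V} {c : F}
    (h : f.charpoly.eval c = 0) : ∃ u, u ≠ 0 ∧ f u = c • u := by
  obtain ⟨u, hu⟩ := ((Module.End.hasEigenvalue_iff_isRoot_charpoly f c).mpr h).exists_hasEigenvector
  exact ⟨u, hu.2, hu.apply_eq_smul⟩

theorem glued_of_right [FiniteDimensional F W] {A : End F V} {Z : W →ₗ[F] V} {D : End F W} {c : F}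
    (h : D.charpoly.eval c ≠ 0) : Glued A Z D c := fun _ hw hD _ => (h (isRoot_of_eigen hw hD)).elim

theorem glued_of_left [FiniteDimensional F V] {A : End F V} {Z : W →ₗ[F] V} {D : End F W} {c : F}
    (h : A.charpoly.eval c ≠ 0) : Glued A Z D c :=
  fun _ _ _ ⟨_, hu, hA⟩ => (h (isRoot_of_eigen hu hA)).elim

theorem exists_left_eigen [FiniteDimensional F V] {A : End F V} {c : F} {u : V} (hu : u ≠ 0)
    (h : A u = c • u) : ∃ ψ : V →ₗ[F] F, ψ ≠ 0 ∧ ∀ a, ψ (A a) = c * ψ a := by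
  have h1 : ¬ Function.Surjective (A - c • (1 : End F V)) := fun hs => by
    have := LinearMap.injective_iff_surjective.mpr hs
    exact hu (this (by simp [h]))
  obtain ⟨ψ, hψ, hψ'⟩ := (LinearMap.range (A - c • (1 : End F V))).exists_dual_map_eq_bot_of_lt_top
    (lt_top_iff_ne_top.mpr (mt LinearMap.range_eq_top.mp h1)) inferInstance
  refine ⟨ψ, hψ, fun a => ?_⟩
  have : ψ ((A - c • (1 : End F V)) a) ∈ Submodule.map ψ (LinearMap.range (A - c • (1 : End F V))) :=
    Submodule.mem_map_of_mem (LinearMap.mem_range_self _ a)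
  rw [hψ'] at this
  simpa [sub_eq_zero] using this

theorem glued_of_left_eigen {A : End F V} {Z : W →ₗ[F] V} {D : End F W} {c : F} {ψ : V →ₗ[F] F}
    (hψ : ∀ a, ψ (A a) = c * ψ a) (h : ∀ w, w ≠ 0 → D w = c • w → ψ (Z w) ≠ 0) : Glued A Z D c := by
  intro w hw hD _ a ha
  apply h w hw hD
  have := congrArg ψ ha
  simpa [hψ] using this

/-- evaluation functional `Z ↦ ψ (Z w)`. -/
def evalFun (ψ : V →ₗ[F] F) (w : W) : (W →ₗ[F] V) →ₗ[F] F := ψ ∘ₗ LinearMap.applyₗ w

@[simp] theorem evalFun_apply (ψ : V →ₗ[F] F) (w : W) (Z : W →ₗ[F] V) :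
    evalFun ψ w Z = ψ (Z w) := rfl

theorem evalFun_ne_zero {ψ : V →ₗ[F] F} {w : W} (hψ : ψ ≠ 0) (hw : w ≠ 0) : evalFun ψ w ≠ 0 := by
  obtain ⟨a, ha⟩ := DFunLike.ne_iff.mp hψ
  obtain ⟨θ, hθ⟩ := Module.Projective.exists_dual_eq_one F hw
  intro h
  have := LinearMap.congr_fun h (θ.smulRight a)
  simp [hθ] at this
  exact ha (by simpa using this)

theorem exists_glue_fun [FiniteDimensional F V] [Nontrivial V] [Nontrivial W] (A : End F V)
    {D : End F W} (hD : ND D) (c : F) :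
    ∃ (ψ : V →ₗ[F] F) (w : W), ψ ≠ 0 ∧ w ≠ 0 ∧ ∀ Z : W →ₗ[F] V, ψ (Z w) ≠ 0 → Glued A Z D c := by
  obtain ⟨v₀, hv₀⟩ := exists_ne (0 : V)
  obtain ⟨w₀, hw₀⟩ := exists_ne (0 : W)
  obtain ⟨ψ₀, hψ₀⟩ := Module.Projective.exists_dual_eq_one F hv₀
  have hψ₀' : ψ₀ ≠ 0 := by rintro rfl; simp at hψ₀
  by_cases hu : ∃ u, u ≠ 0 ∧ A u = c • u
  · obtain ⟨u, hu, hA⟩ := hu
    obtain ⟨ψ, hψ, hψ'⟩ := exists_left_eigen hu hA
    obtain ⟨w, hw⟩ := hD c
    by_cases hw0 : w = 0
    · refine ⟨ψ₀, w₀, hψ₀', hw₀, fun Z _ w' hw' hD' => ?_⟩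
      obtain ⟨s, rfl⟩ := hw w' hD'
      simp [hw0] at hw'
    · refine ⟨ψ, w, hψ, hw0, fun Z hZ => glued_of_left_eigen hψ' fun w' hw' hD' => ?_⟩
      obtain ⟨s, rfl⟩ := hw w' hD'
      have : s ≠ 0 := by rintro rfl; simp at hw'
      simp [this, hZ]
  · exact ⟨ψ₀, w₀, hψ₀', hw₀, fun Z _ _ _ _ h => (hu h).elim⟩

/-- `v` is a cyclic vector of `f`. -/
def Cyc (f : End F V) (v : V) : Prop := ∀ w, ∃ p : F[X], aeval f p v = w

theorem cyc_iff {f : End F V} {v : V} :
    Cyc f v ↔ ∀ U : Submodule F V, v ∈ U → (∀ u ∈ U, f u ∈ U) → U = ⊤ := by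
  constructor
  · intro h U hv hU
    refine eq_top_iff.mpr fun w hw => ?_
    clear hw
    obtain ⟨p, rfl⟩ := h w
    induction p using Polynomial.induction_on' with
    | add p q hp hq => rw [map_add, LinearMap.add_apply]; exact U.add_mem hp hq
    | monomial n a =>
      rw [aeval_monomial, End.mul_apply, Module.algebraMap_end_apply]
      refine U.smul_mem _ ?_
      induction n with
      | zero => simpa
      | succ n ih => rw [pow_succ', End.mul_apply]; exact hU _ ih
  · intro h w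
    let U : Submodule F V := LinearMap.range
      ((LinearMap.applyₗ v : End F V →ₗ[F] V) ∘ₗ (aeval f : F[X] →ₐ[F] End F V).toLinearMap)
    have := h U ⟨1, by simp⟩ (by
      rintro _ ⟨p, rfl⟩
      exact ⟨X * p, by simp⟩)
    obtain ⟨p, hp⟩ : w ∈ U := this ▸ Submodule.mem_top
    exact ⟨p, hp⟩

theorem Cyc.map {f : End F V} {g : End F W} {v : V} (h : Cyc f v) (e : V ≃ₗ[F] W)
    (he : ∀ x, e (f x) = g (e x)) : Cyc g (e v) := by
  rw [cyc_iff] at h ⊢
  intro U hv hU
  have := h (U.comap (e : V →ₗ[F] W)) hv (fun u hu => by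
    simp only [Submodule.mem_comap, LinearEquiv.coe_coe] at hu ⊢
    rw [he]; exact hU _ hu)
  refine eq_top_iff.mpr fun w _ => ?_
  obtain ⟨w, rfl⟩ := e.surjective w
  have h2 : w ∈ U.comap (e : V →ₗ[F] W) := this ▸ Submodule.mem_top
  exact h2

theorem Cyc.nd [FiniteDimensional F V] {f : End F V} {v : V} (h : Cyc f v) : ND f := by
  intro c
  set g := f - c • (1 : End F V) with hg
  have h1 : LinearMap.range g ⊔ Submodule.span F {v} = ⊤ := by
    refine cyc_iff.mp h _ (Submodule.mem_sup_right (Submodule.mem_span_singleton_self v)) ?_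
    intro u hu
    have : f u = g u + c • u := by simp [hg]
    rw [this]
    exact add_mem (Submodule.mem_sup_left (LinearMap.mem_range_self _ _)) (Submodule.smul_mem _ _ hu)
  have h2 := Submodule.finrank_add_le_finrank_add_finrank (LinearMap.range g) (Submodule.span F {v})
  have h3 := LinearMap.finrank_range_add_finrank_ker g
  have h4 : finrank F (Submodule.span F {v}) ≤ 1 := by
    simpa using finrank_span_le_card ({v} : Set V)
  rw [h1, finrank_top] at h2
  have h5 : finrank F (LinearMap.ker g) ≤ 1 := by omega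
  obtain ⟨w, hw⟩ := finrank_le_one_iff.mp h5
  refine ⟨w, fun u hu => ?_⟩
  obtain ⟨s, hs⟩ := hw ⟨u, by simp [hg, hu]⟩
  exact ⟨s, (congrArg Subtype.val hs).symm⟩

theorem ND.finrank_ker_le {f : End F V} (h : ND f) (c : F) :
    finrank F (LinearMap.ker (aeval f (X - C c))) ≤ 1 := by
  obtain ⟨w, hw⟩ := h c
  by_cases hw0 : f w = c • w
  · refine finrank_le_one ⟨w, by simp [hw0]⟩ ?_
    rintro ⟨u, hu⟩
    obtain ⟨s, rfl⟩ := hw u (by simpa [sub_eq_zero] using hu)
    exact ⟨s, rfl⟩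
  · refine finrank_le_one 0 ?_
    rintro ⟨u, hu⟩
    have hu' : f u = c • u := by simpa [sub_eq_zero] using hu
    obtain ⟨s, rfl⟩ := hw u hu'
    have : s = 0 := by
      by_contra hs
      apply hw0
      rw [map_smul, smul_comm] at hu'
      exact smul_right_injective _ hs hu'
    exact ⟨0, Subtype.ext (by simp [this])⟩

end ND

end Cfsg.Agent.Fac
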