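import Cfsg.Agent.Fac.Two

/-!
Decomposition into cyclic blocks, gluing of factorisations, cyclic `LU`-factorisations.
-/

set_option autoImplicit false

open Polynomial Module

namespace Cfsg.Agent.Fac

open Cfsg.Agent.GLn

universe u

section Blocks
variable {F : Type u} [Field F] {V : Type u} [AddCommGroup V] [Module F V]

open Classical in
/-- `M` is similar to the sum of the cyclic maps attached to `L`. -/
def Blocks (M : End F V) (L : Multiset (F[X] × ℕ)) : Prop :=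
  Sim M (rootEnd fun x : L.ToType => x.1.1 ^ x.1.2)

theorem exists_blocks [FiniteDimensional F V] (M : End F V) : ∃ L, ValidED L ∧ Blocks M L := by
  obtain ⟨A, hA⟩ := exists_matrix_sim (n := Fin (finrank F V)) M (by simp)
  obtain ⟨L, hL⟩ := exists_hasED A
  exact ⟨L, hL.1, hA.symm.trans hL.2⟩

theorem Blocks.subsingleton {M : End F V} (h : Blocks M 0) : Subsingleton V := by
  classical
  obtain ⟨e, -⟩ := h
  have : IsEmpty (0 : Multiset (F[X] × ℕ)).ToType := ⟨fun x => Multiset.notMem_zero _ (Multiset.coe_mem (x := x))⟩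
  exact e.toEquiv.subsingleton

theorem cyc_root (f : F[X]) : Cyc (Algebra.lmul F _ (AdjoinRoot.root f)) 1 := by
  intro w
  obtain ⟨p, rfl⟩ := AdjoinRoot.mk_surjective w
  exact ⟨p, by rw [aeval_algHom_apply]; simp⟩

theorem charpoly_root {f : F[X]} (hf : f.Monic) [Module.Finite F (AdjoinRoot f)] :
    (Algebra.lmul F _ (AdjoinRoot.root f)).charpoly = f := by
  rw [← LinearMap.charpoly_toMatrix _ (AdjoinRoot.powerBasis hf.ne_zero).basis,
    ← Algebra.leftMulMatrix_apply, charpoly_leftMulMatrix_root hf]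

theorem Blocks.cons [FiniteDimensional F V] {M : End F V} {x : F[X] × ℕ} {L : Multiset (F[X] × ℕ)}
    (h : Blocks M (x ::ₘ L)) (hx : x.1.Monic) :
    ∃ (V₁ : Type u) (_ : AddCommGroup V₁) (_ : Module F V₁) (_ : FiniteDimensional F V₁)
      (V₂ : Type u) (_ : AddCommGroup V₂) (_ : Module F V₂) (_ : FiniteDimensional F V₂)
      (M₁ : End F V₁) (M₂ : End F V₂) (v : V₂),
      Blocks M₁ L ∧ Cyc M₂ v ∧ M₂.charpoly = x.1 ^ x.2 ∧ Sim (M₁.prodMap M₂) M := by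
  classical
  let g : Option L.ToType → F[X] := fun o => o.elim (x.1 ^ x.2) fun y => y.1.1 ^ y.1.2
  have h1 : Sim (rootEnd g) (rootEnd fun y : (x ::ₘ L).ToType => y.1.1 ^ y.1.2) :=
    sim_rootEnd_of_equiv Multiset.consEquiv.symm (fun o => by cases o <;> rfl)
  have h2 : Sim (rootEnd g) ((Algebra.lmul F _ (AdjoinRoot.root (x.1 ^ x.2))).prodMap
      (rootEnd fun y : L.ToType => y.1.1 ^ y.1.2)) :=
    sim_iff.mpr ⟨LinearEquiv.piOptionEquivProd F (M := fun o => AdjoinRoot (g o)), fun v => rfl⟩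
  have h3 := (h.trans h1.symm).trans (h2.trans (sim_prodMap_comm _ _))
  have := (hx.pow x.2).finite_adjoinRoot
  have h4 : FiniteDimensional F (∀ y : L.ToType, AdjoinRoot (y.1.1 ^ y.1.2)) := by
    obtain ⟨e, -⟩ := h3
    exact Module.Finite.of_surjective ((LinearMap.fst F _ _).comp e.toLinearMap)
      (Prod.fst_surjective.comp e.surjective)
  exact ⟨_, _, _, h4, _, _, _, this, _, _, 1, Sim.refl _, cyc_root _, charpoly_root (hx.pow _),
    h3.symm⟩

theorem sim_prodMap_subsingleton {W : Type*} [AddCommGroup W] [Module F W] [Subsingleton W]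
    (N : End F W) (M : End F V) : Sim (N.prodMap M) M := by
  refine sim_iff.mpr ⟨LinearEquiv.ofBijective (LinearMap.snd F W V)
    ⟨fun x y h => Prod.ext (Subsingleton.elim _ _) h, Prod.snd_surjective⟩, fun x => rfl⟩

theorem Cyc.of_sim {W : Type*} [AddCommGroup W] [Module F W] {M : End F V} {N : End F W} {v : V}
    (h : Cyc M v) (hs : Sim M N) : ∃ w, Cyc N w := by
  obtain ⟨e, he⟩ := sim_iff.mp hs
  exact ⟨_, h.map e he⟩

theorem Blocks.single [FiniteDimensional F V] {M : End F V} {x : F[X] × ℕ}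
    (h : Blocks M {x}) (hx : x.1.Monic) : (∃ v, Cyc M v) ∧ M.charpoly = x.1 ^ x.2 := by
  obtain ⟨V₁, _, _, _, V₂, _, _, _, M₁, M₂, v, h1, h2, h3, h4⟩ := Blocks.cons (L := 0) h hx
  have := h1.subsingleton
  have h5 := (sim_prodMap_subsingleton M₁ M₂).symm.trans h4
  exact ⟨h2.of_sim h5, h5.charpoly ▸ h3⟩

theorem Blocks.pair [FiniteDimensional F V] {M : End F V} {x y : F[X] × ℕ}
    (h : Blocks M {x, y}) (hx : x.1.Monic) (hy : y.1.Monic) :
    ∃ (V₁ : Type u) (_ : AddCommGroup V₁) (_ : Module F V₁) (_ : FiniteDimensional F V₁)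
      (V₂ : Type u) (_ : AddCommGroup V₂) (_ : Module F V₂) (_ : FiniteDimensional F V₂)
      (M₁ : End F V₁) (M₂ : End F V₂) (v₁ : V₁) (v₂ : V₂),
      Cyc M₁ v₁ ∧ M₁.charpoly = y.1 ^ y.2 ∧ Cyc M₂ v₂ ∧ M₂.charpoly = x.1 ^ x.2 ∧
        Sim (M₁.prodMap M₂) M := by
  obtain ⟨V₁, _, _, _, V₂, _, _, _, M₁, M₂, v, h1, h2, h3, h4⟩ := Blocks.cons (L := {y}) h hx
  obtain ⟨⟨w, hw⟩, h5⟩ := h1.single hy
  exact ⟨V₁, _, _, inferInstance, V₂, _, _, inferInstance, M₁, M₂, w, v, hw, h5, h2, h3, h4⟩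

end Blocks

section Glue
variable {F : Type*} [Field F] {V W : Type*} [AddCommGroup V] [Module F V] [AddCommGroup W]
  [Module F W] [FiniteDimensional F V] [FiniteDimensional F W]

theorem Cyc.prodMap {M : End F V} {N : End F W} {v : V} {w : W} (hv : Cyc M v) (hw : Cyc N w)
    (h : IsCoprime M.charpoly N.charpoly) : Cyc (M.prodMap N) (v, w) := by
  have key : ∀ p : F[X], aeval (M.prodMap N) p (v, w) = (aeval M p v, aeval N p w) := fun p => by
    have := aeval_algHom_apply (LinearMap.prodMapAlgHom F V W) (M, N) p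
    change aeval (M.prodMap N) p = _ at this
    rw [this]
    simp [aeval_prod_apply]
  obtain ⟨a, b, hab⟩ := h
  rintro ⟨x, y⟩
  obtain ⟨p, rfl⟩ := hv x
  obtain ⟨q, rfl⟩ := hw y
  refine ⟨p * (b * N.charpoly) + q * (a * M.charpoly), ?_⟩
  have e1 : aeval M (b * N.charpoly) = 1 := by
    have := congrArg (aeval M) hab
    simpa [LinearMap.aeval_self_charpoly] using this
  have e2 : aeval N (a * M.charpoly) = 1 := by
    have := congrArg (aeval N) hab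
    simpa [LinearMap.aeval_self_charpoly] using this
  rw [key, map_add, map_add, map_mul (aeval M) p, map_mul (aeval N) q, e1, e2]
  simp [LinearMap.aeval_self_charpoly]

omit [FiniteDimensional F V] [FiniteDimensional F W] in
theorem blk_upper_mul (M₁ B₁ : End F V) (S Z : W →ₗ[F] V) (M₂ B₂ : End F W) :
    blk M₁ S 0 M₂ * blk B₁ Z 0 B₂ = blk (M₁ * B₁) (M₁ ∘ₗ Z + S ∘ₗ B₂) 0 (M₂ * B₂) := by
  rw [blk_mul]; simp

theorem comp_ne_zero {M : End F V} (hM : Function.Injective M) {ψ : V →ₗ[F] F} (hψ : ψ ≠ 0) :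
    ψ ∘ₗ M ≠ 0 := by
  intro h
  apply hψ
  ext x
  obtain ⟨y, rfl⟩ := LinearMap.injective_iff_surjective.mp hM x
  exact LinearMap.congr_fun h y

theorem fct_of_glued {M₁ B₁ : End F V} {S Z : W →ₗ[F] V} {M₂ B₂ : End F W}
    (h1 : ND B₁) (h2 : ND (M₁ * B₁)) (h3 : ND B₂) (h4 : ND (M₂ * B₂))
    (hB : ∀ c, B₂.charpoly.eval c = 0 → Glued B₁ Z B₂ c)
    (hX : ∀ c, (M₂ * B₂).charpoly.eval c = 0 → Glued (M₁ * B₁) (M₁ ∘ₗ Z + S ∘ₗ B₂) (M₂ * B₂) c) :
    Fct (blk M₁ S 0 M₂) (B₁.charpoly * B₂.charpoly) ((M₁ * B₁).charpoly * (M₂ * B₂).charpoly) := by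
  refine ⟨blk B₁ Z 0 B₂, nd_blk_upper h1 h3 fun c => ?_, ?_, charpoly_blk_upper _ _ _, ?_⟩
  · by_cases hc : B₂.charpoly.eval c = 0
    · exact hB c hc
    · exact glued_of_right hc
  · rw [blk_upper_mul]
    refine nd_blk_upper h2 h4 fun c => ?_
    by_cases hc : (M₂ * B₂).charpoly.eval c = 0
    · exact hX c hc
    · exact glued_of_right hc
  · rw [blk_upper_mul, charpoly_blk_upper]

/-- Gluing along a direct sum: three hyperplanes. -/
theorem Fct.glue₃ [Nontrivial V] [Nontrivial W] (hF : Big F 3) {M₁ : End F V} {M₂ : End F W}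
    (hM : Function.Injective M₁) {p₁ q₁ p₂ q₂ : F[X]} (h₁ : Fct M₁ p₁ q₁) (h₂ : Fct M₂ p₂ q₂)
    {a b c : F} (hp : ∀ x, p₂.eval x = 0 → x = a) (hq : ∀ x, q₂.eval x = 0 → x = b ∨ x = c) :
    Fct (M₁.prodMap M₂) (p₁ * p₂) (q₁ * q₂) := by
  obtain ⟨B₁, h1, h2, rfl, rfl⟩ := h₁
  obtain ⟨B₂, h3, h4, rfl, rfl⟩ := h₂
  obtain ⟨ψ₁, w₁, hψ₁, hw₁, k₁⟩ := exists_glue_fun B₁ h3 a
  obtain ⟨ψ₂, w₂, hψ₂, hw₂, k₂⟩ := exists_glue_fun (M₁ * B₁) h4 b
  obtain ⟨ψ₃, w₃, hψ₃, hw₃, k₃⟩ := exists_glue_fun (M₁ * B₁) h4 c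
  obtain ⟨Z, z1, z2, z3⟩ := exists_lin₃ hF (evalFun_ne_zero hψ₁ hw₁)
    (evalFun_ne_zero (comp_ne_zero hM hψ₂) hw₂) (evalFun_ne_zero (comp_ne_zero hM hψ₃) hw₃)
  rw [prodMap_eq_blk]
  refine fct_of_glued (Z := Z) h1 h2 h3 h4 (fun x hx => ?_) (fun x hx => ?_)
  · rw [hp x hx]; exact k₁ Z z1
  · rcases hq x hx with rfl | rfl
    · exact k₂ _ (by simpa using z2)
    · exact k₃ _ (by simpa using z3)

/-- Extension by a line. -/
theorem Fct.ext_one [Nontrivial V] (hF : Big F 3) {M₁ : End F V} (hM : Function.Injective M₁)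
    {p q : F[X]} (h : Fct M₁ p q) (S : F →ₗ[F] V) (l b : F) :
    Fct (blk M₁ S 0 (sc l)) (p * (X - C b)) (q * (X - C (l * b))) := by
  obtain ⟨B₁, h1, h2, rfl, rfl⟩ := h
  have e : sc l * sc b = sc (l * b) := by ext; simp [mul_comm]
  obtain ⟨ψ₁, w₁, hψ₁, hw₁, k₁⟩ := exists_glue_fun B₁ (nd_sc b) b
  obtain ⟨ψ₂, w₂, hψ₂, hw₂, k₂⟩ := exists_glue_fun (M₁ * B₁) (nd_sc (l * b)) (l * b)
  obtain ⟨Z, z1, z2⟩ := exists_aff₂ hF (a := 0) (b := ψ₂ (S (sc b w₂)))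
    (Or.inl (evalFun_ne_zero hψ₁ hw₁)) (Or.inl (evalFun_ne_zero (comp_ne_zero hM hψ₂) hw₂))
  have := fct_of_glued (Z := Z) (S := S) (M₂ := sc l) h1 h2 (nd_sc b) (e ▸ nd_sc (l * b))
    (fun x hx => ?_) (fun x hx => ?_)
  · rwa [e, charpoly_sc, charpoly_sc] at this
  · rw [charpoly_sc] at hx
    obtain rfl : x = b := by simpa [sub_eq_zero] using hx
    exact k₁ Z (by simpa using z1)
  · rw [e, charpoly_sc] at hx
    obtain rfl : x = l * b := by simpa [sub_eq_zero] using hx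
    rw [e]
    exact k₂ _ (by simpa using z2)

/-- Adding a unipotent block of size two around a factorisation with eigenvalue one. -/
theorem Fct.sandwich {M : End F V} (hM : Function.Injective M) {p q : F[X]} (h : Fct M p q)
    (hp : p.eval 1 = 0) (hq : q.eval 1 = 0) :
    Fct (M.prodMap (blk (sc 1) (sc 1) 0 (sc 1))) (p * (X - C 1) ^ 2) (q * (X - C 1) ^ 2) := by
  obtain ⟨B, h1, h2, rfl, rfl⟩ := h
  obtain ⟨u₁, hu₁, e₁⟩ := exists_eigen_of_isRoot hp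
  obtain ⟨u₂, hu₂, e₂⟩ := exists_eigen_of_isRoot hq
  obtain ⟨ψ₁, hψ₁, l₁⟩ := exists_left_eigen hu₁ e₁
  obtain ⟨ψ₂, hψ₂, l₂⟩ := exists_left_eigen hu₂ e₂
  have : Nontrivial V := ⟨⟨u₁, 0, hu₁⟩⟩
  have e : sc (1 : F) * sc 1 = sc 1 := by ext; simp
  obtain ⟨θ₁, w₁, hθ₁, hw₁, k₁⟩ := exists_glue_fun (sc (1 : F)) h1 1
  obtain ⟨θ₂, w₂, hθ₂, hw₂, k₂⟩ := exists_glue_fun (sc (1 : F)) h2 1
  obtain ⟨Z, z1, z2⟩ := exists_lin₂ (evalFun_ne_zero hθ₁ hw₁) (evalFun_ne_zero hθ₂ hw₂)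
  have gl : ∀ {D : End F V} {c : F}, Glued (sc (1 : F)) Z D 1 → Glued (sc (1 : F)) Z D c := by
    intro D c h
    by_cases hc : c = 1
    · rwa [hc]
    · exact glued_of_left (by rw [charpoly_sc]; simpa [sub_eq_zero] using hc)
  have n1 : ND (blk (sc 1) Z 0 B) := nd_blk_upper (nd_sc 1) h1 fun c => gl (k₁ Z z1)
  have e2 : blk (sc 1) 0 0 M * blk (sc 1) Z 0 B = blk (sc 1) Z 0 (M * B) := by
    rw [blk_upper_mul, e]; congr 1; ext; simp
  have n2 : ND (blk (sc 1) 0 0 M * blk (sc 1) Z 0 B) := by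
    rw [e2]; exact nd_blk_upper (nd_sc 1) h2 fun c => gl (k₂ Z z2)
  obtain ⟨y, y1, y2⟩ := exists_lin₂ hψ₁ (comp_ne_zero hM hψ₂)
  have := fct_of_glued (Z := LinearMap.toSpanSingleton F _ ((0 : F), y)) (S := LinearMap.inl F F V)
    (M₂ := sc 1) n1 n2 (nd_sc 1) (by rw [e]; exact nd_sc 1) (fun x hx => ?_) (fun x hx => ?_)
  · rw [e2, e, charpoly_blk_upper, charpoly_blk_upper, charpoly_sc] at this
    have hs : Sim (blk (blk (sc 1) 0 0 M) (LinearMap.inl F F V) 0 (sc 1))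
        (M.prodMap (blk (sc 1) (sc 1) 0 (sc 1))) :=
      sim_iff.mpr ⟨((LinearEquiv.prodComm F F V).prodCongr (LinearEquiv.refl F F)).trans
        (LinearEquiv.prodAssoc F V F F), fun x => by simp⟩
    convert this.of_sim hs using 1 <;> ring
  · rw [charpoly_sc] at hx
    obtain rfl : x = 1 := by simpa [sub_eq_zero] using hx
    refine glued_of_left_eigen (ψ := ψ₁ ∘ₗ LinearMap.snd F F V) (fun a => by simp [l₁]) ?_
    intro w hw _
    simp [hw, y1]
  · rw [e, charpoly_sc] at hx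
    obtain rfl : x = 1 := by simpa [sub_eq_zero] using hx
    rw [e2]
    refine glued_of_left_eigen (ψ := ψ₂ ∘ₗ LinearMap.snd F F V) (fun a => by
      simpa using l₂ a.2) ?_
    intro w hw _
    simpa [hw] using y2

end Glue

end Cfsg.Agent.Fac
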