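import Cfsg.Agent.Fac.Basic

/-!
Similarity of non-derogatory maps; commutators.
-/

set_option autoImplicit false

open Polynomial Module

namespace Cfsg.Agent.Fac

open Cfsg.Agent.GLn

variable {F : Type*} [Field F]

theorem pow_eq_of_coprime {P R R' : F[X]} (hP : Irreducible P) {a b : ℕ} (h : P ^ a * R = P ^ b * R')
    (hR : IsCoprime P R) (hR' : IsCoprime P R') : a = b := by
  have key : ∀ {R R' : F[X]} {a b : ℕ}, P ^ a * R = P ^ b * R' → IsCoprime P R → ¬ a < b := by
    intro R R' a b h hR hab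
    obtain ⟨k, rfl⟩ := Nat.exists_eq_add_of_lt hab
    rw [add_assoc, pow_add, mul_assoc] at h
    have h2 := mul_left_cancel₀ (pow_ne_zero a hP.ne_zero) h
    have : P ∣ R := ⟨P ^ k * R', by rw [h2]; ring⟩
    exact hP.coprime_iff_not_dvd.mp hR this
  have h1 := key h hR
  have h2 := key h.symm hR'
  omega

theorem prod_map_pow_sum {G α : Type*} [CommMonoid G] (t : G) (f : α → ℕ) (s : Multiset α) :
    (s.map fun x => t ^ f x).prod = t ^ (s.map f).sum := by
  induction s using Multiset.induction_on with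
  | empty => simp
  | cons a s ih => simp [ih, pow_add]

theorem card_filter_eq_sum {α : Type*} (p : α → Prop) [DecidablePred p] (s : Multiset α) :
    (s.filter p).card = (s.map fun x => if p x then 1 else 0).sum := by
  induction s using Multiset.induction_on with
  | empty => simp
  | cons a s ih => by_cases h : p a <;> simp [h, ih, add_comm]

section ED
variable {n : Type*} [Fintype n] [DecidableEq n]

open Classical in
theorem ed_charpoly_eq {A : Matrix n n F} {M : Multiset (F[X] × ℕ)} (h : HasED A M) {P : F[X]}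
    (hP : Irreducible P) (hP' : P.Monic) : ∃ R, IsCoprime P R ∧
      A.charpoly = P ^ ((M.filter fun x => x.1 = P).map Prod.snd).sum * R := by
  refine ⟨((M.filter fun x => ¬ x.1 = P).map fun x => x.1 ^ x.2).prod, ?_, ?_⟩
  · refine Multiset.prod_induction _ _ (fun a b ha hb => ha.mul_right hb) isCoprime_one_right ?_
    intro a ha
    obtain ⟨x, hx, rfl⟩ := Multiset.mem_map.mp ha
    obtain ⟨hx, hne⟩ := Multiset.mem_filter.mp hx
    refine IsCoprime.pow_right ?_
    exact hP.coprime_iff_not_dvd.mpr fun hd =>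
      hne (eq_of_monic_of_associated hP' (h.1 x hx).2.1 (hP.associated_of_dvd (h.1 x hx).1 hd)).symm
  · rw [h.charpoly]
    conv_lhs => rw [← Multiset.filter_add_not (fun x => x.1 = P) M]
    rw [Multiset.map_add, Multiset.prod_add]
    congr 1
    rw [← prod_map_pow_sum]
    refine congrArg _ (Multiset.map_congr rfl fun x hx => ?_)
    rw [(Multiset.mem_filter.mp hx).2]

theorem pow_mem_centDet_of_charpoly [Finite F] {A : Matrix n n F} {P R : F[X]} {e : ℕ}
    (hP : Irreducible P) (hP' : P.Monic) (hR : IsCoprime P R) (h : A.charpoly = P ^ e * R)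
    (t : Fˣ) : t ^ e ∈ centDet A := by
  classical
  obtain ⟨M, hM⟩ := exists_hasED A
  obtain ⟨R', hR', h'⟩ := ed_charpoly_eq hM hP hP'
  rw [pow_eq_of_coprime hP (h.symm.trans h') hR hR', ← prod_map_pow_sum]
  refine Subgroup.multiset_prod_mem _ _ fun a ha => ?_
  obtain ⟨x, hx, rfl⟩ := Multiset.mem_map.mp ha
  exact hM.pow_mem_centDet (Multiset.mem_filter.mp hx).1 t

/-- Only linear factors are repeated. -/
def Simple (χ : F[X]) : Prop := ∀ P : F[X], Irreducible P → P.Monic → P ^ 2 ∣ χ → P.natDegree = 1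

open Classical in
theorem ed_filter_card_le {A : Matrix n n F} {M : Multiset (F[X] × ℕ)} (h : HasED A M)
    (hA : ND (Matrix.toLin' A)) (hχ : Simple A.charpoly) {P : F[X]} (hP : Irreducible P)
    (hP' : P.Monic) : (M.filter fun x => x.1 = P).card ≤ 1 := by
  by_contra hc
  push Not at hc
  obtain ⟨R, -, hR⟩ := ed_charpoly_eq h hP hP'
  have h2 : (M.filter fun x => x.1 = P).card ≤
      ((M.filter fun x => x.1 = P).map Prod.snd).sum := by
    have := Multiset.card_nsmul_le_sum (s := (M.filter fun x => x.1 = P).map Prod.snd) (a := 1)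
      (by
        intro a ha
        obtain ⟨x, hx, rfl⟩ := Multiset.mem_map.mp ha
        exact (h.1 x (Multiset.mem_filter.mp hx).1).2.2)
    simpa using this
  have h1 := hχ P hP hP' (by
    rw [hR]; exact Dvd.dvd.mul_right (pow_dvd_pow _ (by omega)) _)
  have h3 := h.finrank_ker_pow hP hP' 1
  have h4 : P = X - C (-P.coeff 0) := by
    rw [hP'.eq_X_add_C h1]; simp
  rw [pow_one, h1, mul_one] at h3
  have h5 := hA.finrank_ker_le (-P.coeff 0)
  rw [← h4, h3] at h5
  have h6 : (M.map fun x => if x.1 = P then min x.2 1 else 0).sum =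
      (M.filter fun x => x.1 = P).card := by
    rw [card_filter_eq_sum]
    refine congrArg _ (Multiset.map_congr rfl fun x hx => ?_)
    have := (h.1 x hx).2.2
    split_ifs
    · omega
    · rfl
  omega

open Classical in
theorem ed_filter_eq {A : Matrix n n F} {M : Multiset (F[X] × ℕ)} (h : HasED A M) {P : F[X]}
    (hc : (M.filter fun x => x.1 = P).card ≤ 1) :
    (M.filter fun x => x.1 = P) =
      if ((M.filter fun x => x.1 = P).map Prod.snd).sum = 0 then 0
      else {(P, ((M.filter fun x => x.1 = P).map Prod.snd).sum)} := by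
  rcases Nat.le_one_iff_eq_zero_or_eq_one.mp hc with h0 | h1
  · rw [Multiset.card_eq_zero.mp h0]; simp
  · obtain ⟨x, hx⟩ := Multiset.card_eq_one.mp h1
    have hx' : x ∈ M.filter fun x => x.1 = P := by rw [hx]; simp
    obtain ⟨h1, h2⟩ := Multiset.mem_filter.mp hx'
    have := (h.1 x h1).2.2
    rw [hx]
    simp only [Multiset.map_singleton, Multiset.sum_singleton]
    rw [if_neg (by omega), ← h2]

theorem isConj_of_nd {A B : Matrix n n F} (hA : ND (Matrix.toLin' A)) (hB : ND (Matrix.toLin' B))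
    (h : A.charpoly = B.charpoly) (hχ : Simple A.charpoly) : IsConj A B := by
  classical
  obtain ⟨M, hM⟩ := exists_hasED A
  obtain ⟨M', hM'⟩ := exists_hasED B
  suffices M = M' from hM.isConj (this ▸ hM')
  refine Multiset.ext.mpr fun a => ?_
  by_cases hP : Irreducible a.1 ∧ a.1.Monic
  · have e1 := ed_filter_eq hM (ed_filter_card_le hM hA hχ hP.1 hP.2)
    have e2 := ed_filter_eq hM' (ed_filter_card_le hM' hB (h ▸ hχ) hP.1 hP.2)
    obtain ⟨R, hR, h1⟩ := ed_charpoly_eq hM hP.1 hP.2
    obtain ⟨R', hR', h2⟩ := ed_charpoly_eq hM' hP.1 hP.2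
    have e3 := pow_eq_of_coprime hP.1 (h1.symm.trans (h.trans h2)) hR hR'
    have e4 : (M.filter fun x => x.1 = a.1) = M'.filter fun x => x.1 = a.1 := by
      rw [e1, e2, e3]
    have := congrArg (Multiset.count a) e4
    rwa [Multiset.count_filter_of_pos (by rfl), Multiset.count_filter_of_pos (by rfl)] at this
  · rw [Multiset.count_eq_zero.mpr fun ha => hP ⟨(hM.1 a ha).1, (hM.1 a ha).2.1⟩,
      Multiset.count_eq_zero.mpr fun ha => hP ⟨(hM'.1 a ha).1, (hM'.1 a ha).2.1⟩]

end ED

variable {V W : Type*} [AddCommGroup V] [Module F V] [AddCommGroup W] [Module F W]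

theorem sim_of_nd [FiniteDimensional F V] [FiniteDimensional F W] {f : End F V} {g : End F W}
    (hf : ND f) (hg : ND g) (h : f.charpoly = g.charpoly) (hχ : Simple f.charpoly) : Sim f g := by
  have hd : finrank F W = finrank F V := by
    rw [← LinearMap.charpoly_natDegree f, h, LinearMap.charpoly_natDegree]
  obtain ⟨A, hA⟩ := exists_matrix_sim (n := Fin (finrank F V)) f (by simp)
  obtain ⟨B, hB⟩ := exists_matrix_sim (n := Fin (finrank F V)) g (by simp [hd])
  have e1 : A.charpoly = f.charpoly := by rw [← hA.charpoly, Matrix.charpoly_toLin']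
  have e2 : B.charpoly = g.charpoly := by rw [← hB.charpoly, Matrix.charpoly_toLin']
  have := isConj_of_nd (hf.of_sim hA.symm) (hg.of_sim hB.symm) (by rw [e1, e2, h]) (e1 ▸ hχ)
  exact hA.symm.trans ((isConj_iff_sim.mp this).trans hB)

theorem simple_of_splits {χ : F[X]} (h0 : χ ≠ 0) (h : χ.Splits) : Simple χ := fun _ hP _ hd =>
  (h.of_dvd h0 ((dvd_pow_self _ two_ne_zero).trans hd)).natDegree_eq_one_of_irreducible hP

theorem simple_mul_splits {g A : F[X]} (hg : Irreducible g) (h0 : A ≠ 0) (h : A.Splits) :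
    Simple (g * A) := by
  intro P hP _ hd
  have : P ∣ A := by
    by_cases hPg : P ∣ g
    · obtain ⟨u, rfl⟩ := hP.associated_of_dvd hg hPg
      rw [sq, mul_assoc] at hd
      exact (Units.dvd_mul_left.mp ((mul_dvd_mul_iff_left hP.ne_zero).mp hd))
    · exact (hP.coprime_iff_not_dvd.mpr hPg).dvd_of_dvd_mul_left
        ((dvd_pow_self _ two_ne_zero).trans hd)
  exact (h.of_dvd h0 this).natDegree_eq_one_of_irreducible hP

/-- The determinants of the automorphisms commuting with `f` exhaust the non-zero scalars. -/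
def DetFull (f : End F V) : Prop := ∀ t : F, t ≠ 0 → ∃ c : End F V, c * f = f * c ∧ LinearMap.det c = t

theorem conj_mul (e : V ≃ₗ[F] W) (f g : End F V) :
    e.conjAlgEquiv F (f * g) = e.conjAlgEquiv F f * e.conjAlgEquiv F g := map_mul _ _ _

theorem det_conjAlg (e : V ≃ₗ[F] W) (f : End F V) :
    LinearMap.det (e.conjAlgEquiv F f) = LinearMap.det f := LinearMap.det_conj f e

theorem DetFull.of_sim {f : End F V} {g : End F W} (h : DetFull f) (hs : Sim f g) : DetFull g := by
  obtain ⟨e, rfl⟩ := hs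
  intro t ht
  obtain ⟨c, hc, hd⟩ := h t ht
  exact ⟨e.conjAlgEquiv F c, by rw [← map_mul, ← map_mul, hc], by rw [det_conjAlg, hd]⟩

theorem detFull_of_charpoly [Finite F] [FiniteDimensional F V] {f : End F V} {P R : F[X]} {e : ℕ}
    (hP : Irreducible P) (hP' : P.Monic) (hR : IsCoprime P R) (h : f.charpoly = P ^ e * R)
    (he : ∀ t : Fˣ, ∃ s : Fˣ, s ^ e = t) : DetFull f := by
  obtain ⟨A, hA⟩ := exists_matrix_sim (n := Fin (finrank F V)) f (by simp)
  have e1 : A.charpoly = f.charpoly := by rw [← hA.charpoly, Matrix.charpoly_toLin']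
  refine DetFull.of_sim (fun t ht => ?_) hA
  obtain ⟨s, hs⟩ := he (Units.mk0 t ht)
  obtain ⟨C, hC, hd⟩ := pow_mem_centDet_of_charpoly hP hP' hR (e1.trans h) s
  refine ⟨Matrix.toLin' (C : Matrix _ _ F), ?_, ?_⟩
  · rw [End.mul_eq_comp, End.mul_eq_comp, ← Matrix.toLin'_mul, ← Matrix.toLin'_mul, hC.eq]
  · rw [LinearMap.det_toLin']
    have := congrArg Units.val (hd.trans hs)
    simpa using this

theorem detFull_of_simple [Finite F] [FiniteDimensional F V] {f : End F V} {P R : F[X]}
    (hP : Irreducible P) (hP' : P.Monic) (hR : IsCoprime P R) (h : f.charpoly = P * R) :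
    DetFull f :=
  detFull_of_charpoly (e := 1) hP hP' hR (by rwa [pow_one]) fun t => ⟨t, pow_one t⟩

/-- Conjugacy by a map of determinant one. -/
theorem exists_det_one_of_sim [FiniteDimensional F V] {f g : End F V} (h : Sim f g)
    (hf : DetFull f) : ∃ a : End F V, LinearMap.det a = 1 ∧ a * f = g * a := by
  obtain ⟨e, he⟩ := sim_iff.mp h
  have h0 : LinearMap.det (e : End F V) ≠ 0 := (LinearEquiv.isUnit_det' e).ne_zero
  obtain ⟨c, hc, hd⟩ := hf _ (inv_ne_zero h0)
  refine ⟨(e : End F V) * c, by rw [map_mul, hd, mul_inv_cancel₀ h0], ?_⟩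
  rw [mul_assoc, hc, ← mul_assoc, ← mul_assoc]
  congr 1
  exact LinearMap.ext he

/-- `M` is a commutator of maps of determinant one. -/
def Comm (M : End F V) : Prop :=
  ∃ a b : End F V, LinearMap.det a = 1 ∧ LinearMap.det b = 1 ∧ M * b * a = a * b

theorem Comm.of_sim {f : End F V} {g : End F W} (h : Comm f) (hs : Sim f g) : Comm g := by
  obtain ⟨e, rfl⟩ := hs
  obtain ⟨a, b, ha, hb, h⟩ := h
  exact ⟨e.conjAlgEquiv F a, e.conjAlgEquiv F b, by rw [det_conjAlg, ha], by rw [det_conjAlg, hb],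
    by rw [← map_mul, ← map_mul, h, map_mul]⟩

theorem Comm.prodMap [FiniteDimensional F V] [FiniteDimensional F W] {f : End F V} {g : End F W}
    (hf : Comm f) (hg : Comm g) : Comm (f.prodMap g) := by
  obtain ⟨a, b, ha, hb, h⟩ := hf
  obtain ⟨a', b', ha', hb', h'⟩ := hg
  refine ⟨a.prodMap a', b.prodMap b', by rw [LinearMap.det_prodMap, ha, ha', one_mul],
    by rw [LinearMap.det_prodMap, hb, hb', one_mul], ?_⟩
  rw [LinearMap.prodMap_mul, LinearMap.prodMap_mul, LinearMap.prodMap_mul, h, h']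

theorem comm_one : Comm (1 : End F V) := ⟨1, 1, by simp, by simp, by simp⟩

theorem comm_of_sim [FiniteDimensional F V] {M B : End F V} (h : Sim B (M * B)) (hB : DetFull B)
    (hd : LinearMap.det B = 1) : Comm M := by
  obtain ⟨a, ha, h⟩ := exists_det_one_of_sim h hB
  exact ⟨a, B, ha, hd, h.symm⟩

theorem Comm.sl {n : Type*} [Fintype n] [DecidableEq n] {g : Matrix.SpecialLinearGroup n F}
    (h : Comm (Matrix.toLin' (g : Matrix n n F))) :
    ∃ a b : Matrix.SpecialLinearGroup n F, g = a * b * a⁻¹ * b⁻¹ := by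
  obtain ⟨a, b, ha, hb, h⟩ := h
  let a' : Matrix.SpecialLinearGroup n F :=
    ⟨LinearMap.toMatrix' a, by rw [LinearMap.det_toMatrix', ha]⟩
  let b' : Matrix.SpecialLinearGroup n F :=
    ⟨LinearMap.toMatrix' b, by rw [LinearMap.det_toMatrix', hb]⟩
  refine ⟨a', b', ?_⟩
  rw [eq_mul_inv_iff_mul_eq, eq_mul_inv_iff_mul_eq]
  apply Subtype.ext
  apply Matrix.toLin'.injective
  change Matrix.toLin' (g.1 * LinearMap.toMatrix' b * LinearMap.toMatrix' a) =
    Matrix.toLin' (LinearMap.toMatrix' a * LinearMap.toMatrix' b)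
  simp only [Matrix.toLin'_mul, Matrix.toLin'_toMatrix']
  exact h

/-- A factorisation `M = X B⁻¹` with non-derogatory `B` and `X = M B`. -/
def Fct [FiniteDimensional F V] (M : End F V) (p q : F[X]) : Prop :=
  ∃ B : End F V, ND B ∧ ND (M * B) ∧ B.charpoly = p ∧ (M * B).charpoly = q

theorem Fct.of_sim [FiniteDimensional F V] [FiniteDimensional F W] {f : End F V} {g : End F W}
    {p q : F[X]} (h : Fct f p q) (hs : Sim f g) : Fct g p q := by
  obtain ⟨e, rfl⟩ := hs
  obtain ⟨B, h1, h2, h3, h4⟩ := h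
  have s1 : Sim B (e.conjAlgEquiv F B) := ⟨e, rfl⟩
  have s2 : Sim (f * B) (e.conjAlgEquiv F f * e.conjAlgEquiv F B) := ⟨e, map_mul _ _ _⟩
  exact ⟨_, h1.of_sim s1, h2.of_sim s2, s1.charpoly ▸ h3, s2.charpoly ▸ h4⟩

theorem Fct.comm [Finite F] [FiniteDimensional F V] {M : End F V} {P R : F[X]} (h : Fct M (P * R) (P * R))
    (hχ : Simple (P * R)) (hP : Irreducible P) (hP' : P.Monic) (hR : IsCoprime P R)
    (hd : (-1) ^ finrank F V * (P * R).coeff 0 = 1) : Comm M := by
  obtain ⟨B, h1, h2, h3, h4⟩ := h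
  refine comm_of_sim (sim_of_nd h1 h2 (h3.trans h4.symm) (h3 ▸ hχ)) (detFull_of_simple hP hP' hR h3) ?_
  rw [LinearMap.det_eq_sign_charpoly_coeff, h3, hd]

end Cfsg.Agent.Fac
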