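import Cfsg.Agent.Fac.Blocks

/-!
`LU`-factorisations of cyclic maps.
-/

set_option autoImplicit false

open Polynomial Module

namespace Cfsg.Agent.Fac

open Cfsg.Agent.GLn

universe u

variable {F : Type*} [Field F] {V : Type u} [AddCommGroup V] [Module F V] [FiniteDimensional F V]

theorem injective_of_det {M : End F V} (h : LinearMap.det M ≠ 0) : Function.Injective M := by
  rw [← LinearMap.ker_eq_bot]
  by_contra hc
  exact h (LinearMap.det_eq_zero_iff_ker_ne_bot.mpr hc)

omit [FiniteDimensional F V] in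
theorem sim_sc (hd : finrank F V = 1) (M : End F V) : Sim M (sc (LinearMap.det M)) := by
  obtain ⟨e⟩ : Nonempty (V ≃ₗ[F] F) := by
    have : FiniteDimensional F V := FiniteDimensional.of_finrank_eq_succ hd
    exact FiniteDimensional.nonempty_linearEquiv_of_finrank_eq (by simp [hd])
  have h : Sim M (e.conjAlgEquiv F M) := ⟨e, rfl⟩
  have h2 : e.conjAlgEquiv F M = sc (e.conjAlgEquiv F M 1) := by ext; simp
  rw [h.det, h2, det_sc, ← h2]
  exact h

omit [FiniteDimensional F V] in
theorem eq_smul_of_sim_sc {M : End F V} {c : F} (h : Sim M (sc c)) : M = c • 1 := by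
  obtain ⟨e, he⟩ := sim_iff.mp h
  ext x
  apply e.injective
  simp [he]

theorem charpoly_one_dim (hd : finrank F V = 1) (M : End F V) :
    M.charpoly = X - C (LinearMap.det M) := by
  rw [(sim_sc hd M).charpoly, charpoly_sc]

/-- A factorisation adapted to the cyclic vector `v`. -/
def CFct (M : End F V) (v : V) (b : F) (p q : F[X]) : Prop :=
  ∃ B : End F V, ND B ∧ Cyc (M * B) v ∧ (∀ w, B w = b • w → ∃ s : F, w = s • v) ∧
    B.charpoly = p ∧ (M * B).charpoly = q

theorem CFct.fct {M : End F V} {v : V} {b : F} {p q : F[X]} (h : CFct M v b p q) : Fct M p q := by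
  obtain ⟨B, h1, h2, -, h3, h4⟩ := h
  exact ⟨B, h1, h2.nd, h3, h4⟩

theorem cfct_step (M : End F V) (v : V) (φ : V →ₗ[F] F) (h1 : φ v = 1) (h0 : φ (M v) ≠ 0) {b : F}
    (hb : b ≠ 0) {p q : F[X]} (h : CFct (schur M v φ h0) (svec M v φ h1) b p q)
    (hr : φ (M (M v)) ≠ φ (M v) ^ 2 ∨ p.eval b ≠ 0) :
    CFct M v b ((X - C b) * p) ((X - C (φ (M v) * b)) * q) := by
  obtain ⟨B', k1, k2, k3, rfl, rfl⟩ := h
  have hr' : ∀ w : LinearMap.ker φ, w ≠ 0 → B' w = b • w → φ (M w) ≠ 0 := by
    intro w hw hw'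
    rcases hr with hr | hr
    · obtain ⟨s, rfl⟩ := k3 w hw'
      have hs : s ≠ 0 := by rintro rfl; simp at hw
      simpa [hs, sub_eq_zero, sq] using hr
    · exact (hr (isRoot_of_eigen hw hw')).elim
  exact ⟨luB M v φ h1 B' b, nd_luB M v φ h1 h0 hb k1 hr', cyc_mul_luB M v φ h1 h0 hb k2,
    eigen_luB M v φ h1 h0 hb k1 hr', charpoly_luB .., charpoly_mul_luB ..⟩

theorem cfct_one (hd : finrank F V = 1) (M : End F V) {v : V} (hv : v ≠ 0) (b : F) :
    CFct M v b (X - C b) (X - C (LinearMap.det M * b)) := by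
  have h1 : ∀ w : V, ∃ s : F, w = s • v := fun w => by
    obtain ⟨s, hs⟩ := (finrank_eq_one_iff_of_nonzero' v hv).mp hd w
    exact ⟨s, hs.symm⟩
  refine ⟨b • 1, fun _ => ⟨v, fun u _ => h1 u⟩, fun w => ?_, fun w _ => h1 w, ?_, ?_⟩
  · obtain ⟨s, rfl⟩ := h1 w
    exact ⟨C s, by simp⟩
  · rw [charpoly_one_dim hd]; simp [hd]
  · rw [charpoly_one_dim hd]; simp [hd, mul_comm]

theorem cfct_two (hd : finrank F V = 2) {M : End F V} {v : V} (hv : Cyc M v) {b : F} (hb : b ≠ 0)
    (ht : LinearMap.trace F V M ≠ 1 + LinearMap.det M) :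
    CFct M v b ((X - C b) ^ 2) ((X - C b) * (X - C (LinearMap.det M * b))) := by
  obtain ⟨φ, h1, h2⟩ := exists_fun₂ (hv.ne_zero (by omega)) (hv.ne_smul (by omega)) (1 : F) 1
  have h0 : φ (M v) ≠ 0 := by simp [h2]
  have hd' : finrank F (LinearMap.ker φ) = 1 := by
    have := finrank_ker_add_one v φ h1; omega
  have := cfct_step M v φ h1 h0 hb (cfct_one hd' (schur M v φ h0)
    ((cyc_schur M v φ h1 h0 hv).ne_zero hd'.ge) b) (Or.inl (by
      rw [cayley_two hd, map_sub, map_smul, map_smul, h1, h2]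
      intro h; apply ht; simp only [smul_eq_mul] at h; linear_combination h))
  rw [det_schur M v φ h1 h0, sq]
  simpa [h2] using this

theorem cfct_three_block (hF : Big F 3) (hd : finrank F V = 3) {M : End F V} {v : V} (hv : Cyc M v)
    {b : F} (hb : b ≠ 0) :
    CFct M v b ((X - C b) ^ 3) ((X - C b) ^ 2 * (X - C (LinearMap.det M * b))) := by
  obtain ⟨t, ht1, ht2⟩ := hF.exists_ne₂ 1 (LinearMap.trace F V M - 1 - LinearMap.det M)
  obtain ⟨φ, h1, h2, h3⟩ := exists_fun₃ (hv.ne_zero (by omega)) (hv.ne_smul (by omega))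
    (hv.ne_comb (by omega)) (1 : F) 1 t
  have h0 : φ (M v) ≠ 0 := by simp [h2]
  have hd' : finrank F (LinearMap.ker φ) = 2 := by
    have := finrank_ker_add_one v φ h1; omega
  have e1 := det_schur M v φ h1 h0
  rw [h2, one_mul] at e1
  have := cfct_step M v φ h1 h0 hb (cfct_two hd' (cyc_schur M v φ h1 h0 hv) hb (by
    rw [trace_schur M v φ h1 h0, ← e1, h2, h3]
    intro h; apply ht2; linear_combination -h)) (Or.inl (by simpa [h2, h3] using ht1))
  rw [h2, one_mul, ← e1] at this
  convert this using 1 <;> ring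

theorem exists_sq_ne_four : ∃ τ : F, τ ^ 2 ≠ 4 * 1 := by
  by_cases h : (0 : F) ^ 2 = 4 * 1
  · exact ⟨1, by rw [← h]; simp⟩
  · exact ⟨0, h⟩

theorem cyc_of_ell (hd : finrank F V = 2) {M : End F V} {s δ : F} (h : M.charpoly = quad s δ)
    (he : SL2.Ell s δ) {v : V} (hv : v ≠ 0) : Cyc M v :=
  cyc_two hd hv fun c hc => ell_eval_ne he c (h ▸ isRoot_of_eigen hv hc)

theorem cfct_three_host [Finite F] (hd : finrank F V = 3) {M : End F V} {v : V} (hv : Cyc M v)
    (hM : LinearMap.det M ≠ 0) {b : F} (hb : b ≠ 0) {s s' δ : F} (he : SL2.Ell s δ)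
    (he' : SL2.Ell s' δ) :
    CFct M v b ((X - C b) * quad s δ) ((X - C (LinearMap.det M * b)) * quad s' δ) := by
  obtain ⟨τ, hτ⟩ := exists_sq_ne_four (F := F)
  obtain ⟨φ, h1, h2, h3⟩ := exists_fun₃ (hv.ne_zero (by omega)) (hv.ne_smul (by omega))
    (hv.ne_comb (by omega)) (1 : F) (LinearMap.det M)
    (LinearMap.det M * (LinearMap.trace F V M - τ))
  have h0 : φ (M v) ≠ 0 := by rwa [h2]
  have hd' : finrank F (LinearMap.ker φ) = 2 := by
    have := finrank_ker_add_one v φ h1; omega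
  have e1 : LinearMap.det (schur M v φ h0) = 1 := by
    have := det_schur M v φ h1 h0
    rw [h2] at this
    exact (mul_left_cancel₀ hM (by rw [← this, mul_one])).symm
  have e2 : LinearMap.trace F _ (schur M v φ h0) = τ := by
    rw [trace_schur M v φ h1 h0, h2, h3]; field_simp; ring
  have e3 : (schur M v φ h0).charpoly = quad τ 1 := by rw [charpoly_two hd', e1, e2]
  obtain ⟨e, z, hez⟩ := conic_of_disc hτ s δ s'
  obtain ⟨B', k1, k2⟩ := exists_factor_two hd' (not_scalar_of_disc hd' e3 hτ) e3 hez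
  rw [one_mul] at k2
  rw [← h2]
  refine cfct_step M v φ h1 h0 hb ⟨B', nd_two hd' (not_scalar_of_disc hd' k1 he.disc),
    cyc_of_ell hd' k2 he' ((cyc_schur M v φ h1 h0 hv).ne_zero (by omega)),
    fun w hw => ?_, k1, k2⟩ (Or.inr (ell_eval_ne he b))
  by_cases hw0 : w = 0
  · exact ⟨0, by simp [hw0]⟩
  · exact (ell_eval_ne he b (k1 ▸ isRoot_of_eigen hw0 hw)).elim

theorem cfct_descent {d b : F} (hb : b ≠ 0) {p q : F[X]}
    (base : ∀ (V : Type u) [AddCommGroup V] [Module F V] [FiniteDimensional F V] (M : End F V)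
      (v : V), finrank F V = 3 → Cyc M v → LinearMap.det M = d → CFct M v b p q)
    (k : ℕ) (hd : finrank F V = k + 3) {M : End F V} {v : V} (hv : Cyc M v)
    (hM : LinearMap.det M = d) : CFct M v b ((X - C b) ^ k * p) ((X - C b) ^ k * q) := by
  induction k generalizing V with
  | zero => simpa using base V M v hd hv hM
  | succ k ih =>
    obtain ⟨φ, h1, h2, h3⟩ := exists_fun₃ (hv.ne_zero (by omega)) (hv.ne_smul (by omega))
      (hv.ne_comb (by omega)) (1 : F) 1 0
    have h0 : φ (M v) ≠ 0 := by simp [h2]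
    have hd' : finrank F (LinearMap.ker φ) = k + 3 := by
      have := finrank_ker_add_one v φ h1; omega
    have e1 := det_schur M v φ h1 h0
    rw [h2, one_mul, hM] at e1
    have := cfct_step M v φ h1 h0 hb (ih hd' (cyc_schur M v φ h1 h0 hv) e1.symm)
      (Or.inl (by simp [h2, h3]))
    rw [h2, one_mul] at this
    convert this using 1 <;> ring

/-- Cyclic maps in dimension at least three: factorisation with an irreducible quadratic factor. -/
theorem fct_host [Finite F] {k : ℕ} (hd : finrank F V = k + 3) {M : End F V} {v : V} (hv : Cyc M v)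
    (hM : LinearMap.det M ≠ 0) {b : F} (hb : b ≠ 0) {s s' δ : F} (he : SL2.Ell s δ)
    (he' : SL2.Ell s' δ) :
    Fct M ((X - C b) ^ k * ((X - C b) * quad s δ))
      ((X - C b) ^ k * ((X - C (LinearMap.det M * b)) * quad s' δ)) :=
  (cfct_descent hb (fun _ _ _ _ M' _ h1 h2 h3 => by
    have := cfct_three_host h1 h2 (h3 ▸ hM) hb he he'
    rwa [h3] at this) k hd hv rfl).fct

/-- Cyclic maps: factorisation with a single eigenvalue on one side. -/
theorem fct_block (hF : Big F 3) {k : ℕ} (hd : finrank F V = k + 1) {M : End F V} {v : V}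
    (hv : Cyc M v) {b : F} (hb : b ≠ 0) (h2 : k = 1 → M.charpoly.eval 1 ≠ 0) :
    Fct M ((X - C b) ^ (k + 1)) ((X - C b) ^ k * (X - C (LinearMap.det M * b))) := by
  match k, hd, h2 with
  | 0, hd, _ => simpa using (cfct_one hd M (hv.ne_zero hd.ge) b).fct
  | 1, hd, h2 =>
    have := (cfct_two hd hv hb (fun h => h2 rfl (by
      rw [charpoly_two hd, eval_quad, h]; ring))).fct
    simpa using this
  | k + 2, hd, _ =>
    have := (cfct_descent hb (fun _ _ _ _ M' _ h1 h2 h3 => by
      have := cfct_three_block hF h1 h2 hb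
      rwa [h3] at this) k hd hv rfl).fct
    convert this using 1 <;> ring

end Cfsg.Agent.Fac
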