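import Cfsg.Agent.Fac.Thompson

/-!
Commutators in `GL_n(2)`, `n ≥ 3`.
-/

set_option autoImplicit false

open Polynomial Module

namespace Cfsg.Agent.Fac

open Cfsg.Agent.GLn

universe u

section General
variable {F : Type*} [Field F] {V W : Type*} [AddCommGroup V] [Module F V] [FiniteDimensional F V]
  [AddCommGroup W] [Module F W] [FiniteDimensional F W]

/-- The invariant over the field with two elements. -/
def GTwo (M : End F V) : Prop :=
  ∃ g A : F[X], (g = 1 ∨ Irreducible g) ∧ A.Monic ∧ A.Splits ∧ (g * A).coeff 0 ≠ 0 ∧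
    A.eval 1 = 0 ∧ Fct M (g * A) (g * A)

theorem GTwo.of_sim {M : End F V} {N : End F W} (h : GTwo M) (hs : Sim M N) : GTwo N := by
  obtain ⟨g, A, h1, h2, h3, h4, h5, h6⟩ := h
  exact ⟨g, A, h1, h2, h3, h4, h5, h6.of_sim hs⟩

theorem comm_of_fct_two (h2 : ∀ t : F, t ≠ 0 → t = 1) {M : End F V} {p : F[X]} (h : Fct M p p)
    (hs : Simple p) (h0 : p.coeff 0 ≠ 0) : Comm M := by
  obtain ⟨B, k1, k2, k3, k4⟩ := h
  refine comm_of_sim (sim_of_nd k1 k2 (k3.trans k4.symm) (k3 ▸ hs))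
    (fun t ht => ⟨1, by simp, by simp [h2 t ht]⟩) (h2 _ ?_)
  rw [LinearMap.det_eq_sign_charpoly_coeff, k3]
  simpa using h0

theorem GTwo.comm (h2 : ∀ t : F, t ≠ 0 → t = 1) {M : End F V} (h : GTwo M) : Comm M := by
  obtain ⟨g, A, h1, h3, h4, h5, -, h6⟩ := h
  refine comm_of_fct_two h2 h6 ?_ h5
  rcases h1 with rfl | h1
  · rw [one_mul]; exact simple_of_splits h3.ne_zero h4
  · exact simple_mul_splits h1 h3.ne_zero h4

theorem GTwo.sandwich {M : End F V} (hM : LinearMap.det M ≠ 0) (h : GTwo M) :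
    GTwo (M.prodMap (jb 1)) := by
  obtain ⟨g, A, h1, h3, h4, h5, h6, h7⟩ := h
  refine ⟨g, A * (X - C 1) ^ 2, h1, h3.mul ((monic_X_sub_C _).pow _),
    h4.mul ((Splits.X_sub_C _).pow _), ?_, by simp, ?_⟩
  · rw [← mul_assoc, mul_coeff_zero, coeff_zero_pow_X_sub_C]
    simpa using h5
  · rw [← mul_assoc]
    exact h7.sandwich (injective_of_det hM) (by simp [h6]) (by simp [h6])

theorem gTwo_of_cyc [Finite F] (hd : 3 ≤ finrank F V) {M : End F V} {v : V} (hv : Cyc M v)
    (hM : LinearMap.det M = 1) : GTwo M := by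
  obtain ⟨k, hk⟩ : ∃ k, finrank F V = k + 3 := ⟨finrank F V - 3, by omega⟩
  obtain ⟨s, hs⟩ := exists_ell_norm (one_ne_zero (α := F))
  have := fct_host hk hv (by simp [hM]) one_ne_zero hs hs
  rw [hM, one_mul] at this
  refine ⟨quad s 1, (X - C 1) ^ (k + 1), Or.inr (irreducible_quad hs), (monic_X_sub_C _).pow _,
    (Splits.X_sub_C _).pow _, ?_, by simp, by convert this using 1 <;> ring⟩
  rw [mul_coeff_zero, coeff_zero_pow_X_sub_C, coeff_zero_quad]
  simp

theorem gTwo_of_one (hd : finrank F V = 1) {M : End F V} (hM : LinearMap.det M = 1) : GTwo M := by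
  have : Nontrivial V := Module.nontrivial_of_finrank_eq_succ hd
  obtain ⟨v, hv⟩ := exists_ne (0 : V)
  have := (cfct_one hd M hv 1).fct
  rw [hM, one_mul] at this
  exact ⟨1, X - C 1, Or.inl rfl, monic_X_sub_C _, Splits.X_sub_C _, by simp, by simp, by
    rwa [one_mul]⟩

theorem gTwo_jb_jb [Finite F] : GTwo ((jb (1 : F)).prodMap (jb 1)) := by
  obtain ⟨s, hs⟩ := exists_ell_norm (one_ne_zero (α := F))
  have hd : finrank F (F × F) = 2 := by simp
  obtain ⟨T, hT⟩ := exists_charpoly_quad hd s (1 : F)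
  have nT : ND T := nd_two hd (not_scalar_of_disc hd hT hs.disc)
  have eT : ∀ u, T u = u → u = 0 := fun u hu => by
    by_contra h0
    exact ell_eval_ne hs 1 (hT ▸ isRoot_of_eigen h0 (by simpa using hu))
  let M₁ : End F (F × F × F) := blk (sc 1) (LinearMap.fst F F F) 0 1
  let B₁ : End F (F × F × F) := blk (sc 1) (-(LinearMap.fst F F F ∘ₗ T)) 0 T
  have e1 : M₁ * B₁ = blk (sc 1) 0 0 T := LinearMap.ext fun x => by simp [M₁, B₁]
  have e : sc (1 : F) * sc 1 = sc 1 := by ext; simp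
  have n1 : ND B₁ := nd_blk_upper (nd_sc 1) nT fun c => glued_of_right (hT ▸ ell_eval_ne hs c)
  have n2 : ND (M₁ * B₁) :=
    e1 ▸ nd_blk_upper (nd_sc 1) nT fun c => glued_of_right (hT ▸ ell_eval_ne hs c)
  have := fct_of_glued (Z := LinearMap.inl F F (F × F))
    (S := LinearMap.inr F F (F × F) ∘ₗ LinearMap.inr F F F) (M₂ := sc 1) n1 n2 (nd_sc 1)
    (by rw [e]; exact nd_sc 1) (fun x hx => ?_) (fun x hx => ?_)
  · rw [e1, e, charpoly_blk_upper, charpoly_blk_upper, charpoly_sc, hT] at this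
    refine GTwo.of_sim ⟨quad s 1, (X - C 1) ^ 2, Or.inr (irreducible_quad hs),
      (monic_X_sub_C _).pow _, (Splits.X_sub_C _).pow _, ?_, by simp,
      by convert this using 1 <;> ring⟩ ?_
    · rw [mul_coeff_zero, coeff_zero_pow_X_sub_C, coeff_zero_quad]
      simp
    · exact sim_iff.mpr ⟨((LinearEquiv.prodAssoc F F F F).symm.prodCongr (LinearEquiv.refl F F)).trans
        (LinearEquiv.prodAssoc F (F × F) F F), fun x => by simp [M₁, LinearEquiv.prodAssoc]⟩
  · rw [charpoly_sc] at hx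
    obtain rfl : x = 1 := by simpa [sub_eq_zero] using hx
    intro w hw _ _ a ha
    have h1 := congrArg Prod.fst ha
    have h2 := eT a.2 (by simpa [B₁] using congrArg Prod.snd ha)
    simp [B₁, h2, hw] at h1
  · rw [e, charpoly_sc] at hx
    obtain rfl : x = 1 := by simpa [sub_eq_zero] using hx
    rw [e1]
    refine glued_of_left_eigen (ψ := LinearMap.fst F F (F × F)) (fun a => by simp) ?_
    intro w hw _
    simpa [M₁] using hw

theorem comm_of_ell_two [Finite F] (h2 : ∀ t : F, t ≠ 0 → t = 1) (hd : finrank F V = 2)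
    {M : End F V} (hM : LinearMap.det M = 1) (h : M.charpoly.eval 1 ≠ 0) : Comm M := by
  have hχ := charpoly_two hd M
  rw [hM] at hχ
  have he : SL2.Ell (LinearMap.trace F V M) 1 := fun r hr => by
    by_cases h0 : r = 0
    · simp [h0] at hr
    · apply h
      rw [hχ, eval_quad, ← h2 r h0]
      rw [h2 r h0] at hr ⊢
      linear_combination hr
  have := fct_two hd (not_scalar_of_disc hd hχ he.disc) hχ (conic_of_disc he.disc _ 1 _) he.disc
    (by rw [one_mul]; exact he.disc)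
  rw [one_mul] at this
  exact comm_of_fct_two h2 this (simple_of_natDegree_le (monic_quad _ _).ne_zero
    (by rw [natDegree_quad]; norm_num)) (by rw [coeff_zero_quad]; exact one_ne_zero)

end General

section Main
variable {F : Type u} [Field F] {V W : Type u} [AddCommGroup V] [Module F V] [FiniteDimensional F V]
  [AddCommGroup W] [Module F W] [FiniteDimensional F W]

/-- Sum of a map satisfying `GTwo` and a commutator. -/
def GTwo' (M : End F V) : Prop :=
  ∃ (V₁ : Type u) (_ : AddCommGroup V₁) (_ : Module F V₁) (_ : FiniteDimensional F V₁)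
    (V₂ : Type u) (_ : AddCommGroup V₂) (_ : Module F V₂) (_ : FiniteDimensional F V₂)
    (M₁ : End F V₁) (M₂ : End F V₂), GTwo M₁ ∧ Comm M₂ ∧ Sim (M₁.prodMap M₂) M

theorem GTwo.prime {M : End F V} (h : GTwo M) : GTwo' M :=
  ⟨V, _, _, inferInstance, PUnit, _, _, inferInstance, M, 1, h, comm_one,
    (sim_prodMap_comm _ _).trans (sim_prodMap_subsingleton _ _)⟩

theorem block_cases [Finite F] (h2 : ∀ t : F, t ≠ 0 → t = 1) {N : End F W} {w : W} (hw : Cyc N w)
    (hN : LinearMap.det N ≠ 0) {P : F[X]} {e : ℕ} (hP : Irreducible P) (hP' : P.Monic) (he : 0 < e)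
    (hχ : N.charpoly = P ^ e) :
    GTwo N ∨ (finrank F W = 2 ∧ N.charpoly.eval 1 ≠ 0) ∨ Sim N (jb (1 : F)) := by
  have hd := finrank_eq_of_charpoly hχ
  have h1 : 0 < finrank F W := by
    rw [hd, natDegree_pow]; exact Nat.mul_pos he hP.natDegree_pos
  by_cases h3 : 3 ≤ finrank F W
  · exact Or.inl (gTwo_of_cyc h3 hw (h2 _ hN))
  by_cases h4 : finrank F W = 1
  · exact Or.inl (gTwo_of_one h4 (h2 _ hN))
  by_cases h5 : N.charpoly.eval 1 = 0
  · rw [hχ] at h5
    exact Or.inr (Or.inr (sim_jb hw (hχ.trans (primary_eq_of_root hP hP' h5 (by omega)))))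
  · exact Or.inr (Or.inl ⟨by omega, h5⟩)

theorem comm_of_host_two [Finite F] (h2 : ∀ t : F, t ≠ 0 → t = 1) {M : End F V}
    {H R : Multiset (F[X] × ℕ)} (hL : ValidED (R + H)) (h : Blocks M (R + H))
    (hM : LinearMap.det M ≠ 0)
    (hbase : ∀ (V : Type u) [AddCommGroup V] [Module F V] [FiniteDimensional F V] (M : End F V),
      Blocks M H → LinearMap.det M ≠ 0 → GTwo M) : Comm M := by
  have hR : ∀ x ∈ R, _ := fun x hx => hL x (Multiset.mem_add.mpr (Or.inl hx))
  have key : GTwo' M := by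
    refine blocks_ind (fun _ _ _ _ M => GTwo' M) H R ?_ (fun V _ _ _ M h hM => (hbase V M h hM).prime)
      ?_ (fun x hx => (hR x hx).2.1) V M h hM
    · rintro _ _ _ _ _ _ _ _ _ _ ⟨V₁, _, _, _, V₂, _, _, _, M₁, M₂, k1, k2, k3⟩ hs
      exact ⟨V₁, _, _, inferInstance, V₂, _, _, inferInstance, M₁, M₂, k1, k2, k3.trans hs⟩
    · rintro x hx V W _ _ _ _ _ _ M N w ⟨V₁, _, _, _, V₂, _, _, _, M₁, M₂, k1, k2, k3⟩ hM hN hw hχ
      have hc : Comm N → GTwo' (M.prodMap N) := fun hc =>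
        ⟨V₁, _, _, inferInstance, V₂ × W, _, _, inferInstance, M₁, M₂.prodMap N, k1, k2.prodMap hc,
          (sim_prodMap_assoc _ _ _).symm.trans (k3.prodMap (Sim.refl N))⟩
      rcases block_cases h2 hw hN (hR x hx).1 (hR x hx).2.1 (hR x hx).2.2 hχ with k | k | k
      · exact hc (k.comm h2)
      · exact hc (comm_of_ell_two h2 k.1 (h2 _ hN) k.2)
      · rw [← k3.det, LinearMap.det_prodMap] at hM
        refine ⟨V₁ × F × F, _, _, inferInstance, V₂, _, _, inferInstance, _, M₂,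
          k1.sandwich (left_ne_zero_of_mul hM), k2, ?_⟩
        exact (sim_prodMap_assoc _ _ _).trans (((Sim.refl M₁).prodMap (sim_prodMap_comm _ _)).trans
          ((sim_prodMap_assoc _ _ _).symm.trans (k3.prodMap k.symm)))
  obtain ⟨V₁, _, _, _, V₂, _, _, _, M₁, M₂, k1, k2, k3⟩ := key
  exact ((k1.comm h2).prodMap k2).of_sim k3

theorem comm_field_two [Finite F] (h2 : ∀ t : F, t ≠ 0 → t = 1) (hd : 3 ≤ finrank F V) {M : End F V}
    (hM : LinearMap.det M ≠ 0) : Comm M := by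
  obtain ⟨L, hL, h⟩ := exists_blocks M
  by_cases h3 : ∃ x ∈ L, (x.1 ^ x.2).natDegree ≠ 2
  · obtain ⟨x, hx, h3⟩ := h3
    obtain ⟨R, rfl⟩ := exists_single hx
    refine comm_of_host_two h2 hL h hM fun V _ _ _ M h hM => ?_
    obtain ⟨⟨v, hv⟩, hχ⟩ := h.single (hL x hx).2.1
    have hd := finrank_eq_of_charpoly hχ
    rcases block_cases h2 hv hM (hL x hx).1 (hL x hx).2.1 (hL x hx).2.2 hχ with k | k | k
    · exact k
    · omega
    · have := k.finrank
      simp at this
      omega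
  push Not at h3
  by_cases h4 : ∃ x ∈ L, (x.1 ^ x.2).eval 1 = 0
  · obtain ⟨x, hx, h4⟩ := h4
    obtain ⟨y, R, rfl⟩ := exists_mem_erase hL h hx (by rw [h3 x hx]; omega)
    have hy : y ∈ R + {x, y} := by simp
    refine comm_of_host_two h2 hL h hM fun V _ _ _ M h hM => ?_
    obtain ⟨V₁, _, _, _, V₂, _, _, _, M₁, M₂, v₁, v₂, k1, k2, k3, k4, k5⟩ :=
      h.pair (hL x hx).2.1 (hL y hy).2.1
    have e1 := primary_eq_of_root (hL x hx).1 (hL x hx).2.1 h4 (h3 x hx)
    by_cases h5 : y.1 ^ y.2 = x.1 ^ x.2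
    · exact gTwo_jb_jb.of_sim (((sim_jb k1 (k2.trans (h5.trans e1))).prodMap
        (sim_jb k3 (k4.trans e1))).symm.trans k5)
    · refine (gTwo_of_cyc ?_ (k1.prodMap k3 ?_) (h2 _ (k5.det ▸ hM))).of_sim k5
      · rw [finrank_prod, finrank_eq_of_charpoly k2, finrank_eq_of_charpoly k4, h3 x hx, h3 y hy]
        norm_num
      · rw [k2, k4]
        exact primary_coprime (hL y hy).1 (hL y hy).2.1 (hL x hx).1 (hL x hx).2.1 h5
          (by rw [h3 x hx, h3 y hy])
  · push Not at h4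
    refine blocks_ind (fun _ _ _ _ M => Comm M) 0 L (fun _ _ _ _ _ _ _ _ _ _ h hs => h.of_sim hs)
      (fun V _ _ _ M h _ => ?_) (fun x hx V W _ _ _ _ _ _ M N w h _ hN _ hχ => ?_)
      (fun x hx => (hL x hx).2.1) V M (by simpa using h) hM
    · have := h.subsingleton
      rw [Subsingleton.elim M 1]
      exact comm_one
    · exact h.prodMap (comm_of_ell_two h2 ((finrank_eq_of_charpoly hχ).trans (h3 x hx)) (h2 _ hN)
        (hχ ▸ h4 x hx))

theorem thompson [Fintype F] (hd : 2 ≤ finrank F V) (hex : finrank F V = 2 → 4 ≤ Fintype.card F)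
    {M : End F V} (hM : LinearMap.det M = 1) : Comm M := by
  rcases hd.eq_or_lt with h | h
  · exact comm_two (hex h.symm) h.symm hM
  · by_cases h3 : 3 ≤ Fintype.card F
    · exact comm_of_three_le h3 h hM
    · have h2 : Fintype.card F = 2 := by
        have := Fintype.one_lt_card (α := F)
        omega
      refine comm_field_two (fun t ht => ?_) h (by simp [hM])
      simpa [h2] using FiniteField.pow_card_sub_one_eq_one t ht

end Main

end Cfsg.Agent.Fac
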