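import Cfsg.Agent.Fac.Cyclic

/-!
Factorisations `M = X B⁻¹` with `X` similar to `B` up to one eigenvalue (fields with at least
three elements).
-/

set_option autoImplicit false

open Polynomial Module

namespace Cfsg.Agent.Fac

open Cfsg.Agent.GLn

universe u

section General
variable {F : Type*} [Field F] {V W : Type*} [AddCommGroup V] [Module F V] [FiniteDimensional F V]
  [AddCommGroup W] [Module F W] [FiniteDimensional F W]

theorem exists_ell_norm [Finite F] {δ : F} (hδ : δ ≠ 0) : ∃ s : F, SL2.Ell s δ := by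
  classical
  cases nonempty_fintype F
  have : ¬ Function.Surjective (fun a : Fˣ => (a : F) + δ * (a : F)⁻¹) := by
    intro h
    have h1 := Fintype.card_le_of_surjective _ h
    rw [Fintype.card_units] at h1
    have := Fintype.card_pos (α := F)
    omega
  simp only [Function.Surjective, not_forall, not_exists] at this
  obtain ⟨s, hs⟩ := this
  refine ⟨s, fun r hr => ?_⟩
  have hr0 : r ≠ 0 := by rintro rfl; apply hδ; linear_combination hr
  apply hs (Units.mk0 r hr0)
  simp only [Units.val_mk0]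
  field_simp
  linear_combination hr

theorem exists_charpoly_quad (hd : finrank F V = 2) (s δ : F) :
    ∃ B : End F V, B.charpoly = quad s δ := by
  obtain ⟨e⟩ : Nonempty ((Fin 2 → F) ≃ₗ[F] V) :=
    FiniteDimensional.nonempty_linearEquiv_of_finrank_eq (by simp [hd])
  refine ⟨e.conjAlgEquiv F (Matrix.toLin' !![0, -δ; 1, s]), ?_⟩
  rw [← Sim.charpoly ⟨e, rfl⟩, charpoly_toLin_two]; simp

/-- The Jordan block of size two. -/
abbrev jb (l : F) : End F (F × F) := blk (sc l) (sc 1) 0 (sc l)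

theorem charpoly_jb (l : F) : (jb l).charpoly = (X - C l) ^ 2 := by
  rw [charpoly_blk_upper, charpoly_sc, sq]

theorem jb_not_scalar (l c : F) : jb l ≠ c • 1 := fun h => by
  have := LinearMap.congr_fun h (0, 1)
  simp at this

omit [FiniteDimensional F V] in
theorem Cyc.not_scalar {M : End F V} {v : V} (h : Cyc M v) (hd : 2 ≤ finrank F V) (c : F) :
    M ≠ c • 1 := fun hc => h.ne_smul hd c (by simp [hc])

theorem finrank_eq_of_charpoly {M : End F V} {p : F[X]} (h : M.charpoly = p) :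
    finrank F V = p.natDegree := by rw [← h, LinearMap.charpoly_natDegree]

theorem sim_jb {M : End F V} {v : V} (h : Cyc M v) {l : F} (hχ : M.charpoly = (X - C l) ^ 2) :
    Sim M (jb l) := by
  have hd : finrank F V = 2 := by rw [finrank_eq_of_charpoly hχ]; simp
  exact sim_two hd (h.not_scalar hd.ge) (jb_not_scalar l) (by rw [hχ, charpoly_jb])

theorem eq_X_sub_C_of_root {P : F[X]} (hP : Irreducible P) (hP' : P.Monic) {l : F}
    (h : P.eval l = 0) : P = X - C l :=
  (eq_of_monic_of_associated (monic_X_sub_C l) hP'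
    ((irreducible_X_sub_C l).associated_of_dvd hP (dvd_iff_isRoot.mpr h))).symm

theorem primary_eq_of_root {P : F[X]} {e k : ℕ} (hP : Irreducible P) (hP' : P.Monic) {l : F}
    (h : (P ^ e).eval l = 0) (hk : (P ^ e).natDegree = k) : P ^ e = (X - C l) ^ k := by
  rw [eval_pow] at h
  have := eq_X_sub_C_of_root hP hP' (pow_eq_zero_iff'.mp h).1
  subst this
  simp at hk
  rw [hk]

theorem primary_coprime {P Q : F[X]} {e k : ℕ} (hP : Irreducible P) (hP' : P.Monic)
    (hQ : Irreducible Q) (hQ' : Q.Monic) (hne : P ^ e ≠ Q ^ k)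
    (hd : (P ^ e).natDegree = (Q ^ k).natDegree) : IsCoprime (P ^ e) (Q ^ k) := by
  refine IsCoprime.pow (hP.coprime_iff_not_dvd.mpr fun h => hne ?_)
  obtain rfl := eq_of_monic_of_associated hP' hQ' (hP.associated_of_dvd hQ h)
  rw [natDegree_pow, natDegree_pow] at hd
  rw [Nat.eq_of_mul_eq_mul_right hP.natDegree_pos hd]

/-- The invariant of the induction. -/
def Good (M : End F V) : Prop :=
  Nontrivial V ∧ ∀ μ δ : F, μ ≠ 0 → δ ≠ 0 → ∃ (s δ' : F) (A : F[X]), SL2.Ell s δ' ∧ A.Monic ∧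
    A.Splits ∧ δ' * A.coeff 0 = δ ∧
    Fct M (quad s δ' * (A * (X - C μ))) (quad s δ' * (A * (X - C (LinearMap.det M * μ))))

theorem Good.of_sim {M : End F V} {N : End F W} (h : Good M) (hs : Sim M N) : Good N := by
  refine ⟨?_, fun μ δ hμ hδ => ?_⟩
  · obtain ⟨e, -⟩ := hs
    have := h.1
    exact e.injective.nontrivial
  · obtain ⟨s, δ', A, h1, h2, h3, h4, h5⟩ := h.2 μ δ hμ hδ
    exact ⟨s, δ', A, h1, h2, h3, h4, hs.det ▸ h5.of_sim hs⟩

theorem Good.comm [Finite F] {M : End F V} (h : Good M) (hd : LinearMap.det M = 1) : Comm M := by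
  obtain ⟨s, δ', A, h1, h2, h3, h4, h5⟩ := h.2 1 ((-1) ^ (finrank F V + 1)) one_ne_zero (by simp)
  rw [hd, one_mul] at h5
  have hs : (A * (X - C 1)).Splits := h3.mul (Splits.X_sub_C _)
  have h0 : A * (X - C 1) ≠ 0 := (h2.mul (monic_X_sub_C _)).ne_zero
  refine h5.comm (simple_mul_splits (irreducible_quad h1) h0 hs) (irreducible_quad h1)
    (monic_quad _ _) ((irreducible_quad h1).coprime_iff_not_dvd.mpr fun hdv => ?_) ?_
  · have := (hs.of_dvd h0 hdv).natDegree_eq_one_of_irreducible (irreducible_quad h1)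
    rw [natDegree_quad] at this
    omega
  · rw [mul_coeff_zero, mul_coeff_zero, coeff_zero_quad, ← mul_assoc δ', h4]
    simp [pow_succ, ← mul_pow]

theorem coeff_zero_pow_X_sub_C (a : F) (k : ℕ) : ((X - C a) ^ k).coeff 0 = (-a) ^ k := by
  rw [coeff_zero_eq_eval_zero]; simp

theorem Good.glue_block (hF : Big F 3) {M : End F V} (h : Good M) (hM : LinearMap.det M ≠ 0)
    {N : End F W} {k : ℕ} (hd : finrank F W = k + 1) {w : W} (hw : Cyc N w)
    (h2 : k = 1 → N.charpoly.eval 1 ≠ 0) : Good (M.prodMap N) := by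
  have := h.1
  have : Nontrivial W := Module.nontrivial_of_finrank_eq_succ hd
  refine ⟨inferInstance, fun μ δ hμ hδ => ?_⟩
  have hκ : LinearMap.det M * μ ≠ 0 := mul_ne_zero hM hμ
  set κ := LinearMap.det M * μ with hκ'
  have hκ2 : (-κ) ^ (k + 1) ≠ 0 := pow_ne_zero _ (neg_ne_zero.mpr hκ)
  obtain ⟨s, δ', A, h1, h2', h3, h4, h5⟩ := h.2 μ (δ / (-κ) ^ (k + 1)) hμ (div_ne_zero hδ hκ2)
  refine ⟨s, δ', A * (X - C κ) ^ (k + 1), h1, h2'.mul ((monic_X_sub_C _).pow _),
    h3.mul ((Splits.X_sub_C _).pow _), ?_, ?_⟩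
  · rw [mul_coeff_zero, coeff_zero_pow_X_sub_C, ← mul_assoc, h4, div_mul_cancel₀ _ hκ2]
  · have := h5.glue₃ hF (injective_of_det hM) (fct_block hF hd hw hκ h2) (a := κ) (b := κ)
      (c := LinearMap.det N * κ) (fun x hx => by simpa [sub_eq_zero] using hx)
      (fun x hx => by
        simp only [eval_mul, eval_pow, eval_sub, eval_X, eval_C, mul_eq_zero, sub_eq_zero] at hx
        exact hx.imp_left fun h => sub_eq_zero.mp (pow_eq_zero_iff'.mp h).1)
    rw [LinearMap.det_prodMap, mul_comm (LinearMap.det M), mul_assoc (LinearMap.det N), ← hκ']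
    convert this using 1 <;> ring

theorem Good.ext_one (hF : Big F 3) {M : End F V} (h : Good M) (hM : LinearMap.det M ≠ 0)
    (S : F →ₗ[F] V) (l : F) : Good (blk M S 0 (sc l)) := by
  have := h.1
  refine ⟨inferInstance, fun μ δ hμ hδ => ?_⟩
  have hκ : LinearMap.det M * μ ≠ 0 := mul_ne_zero hM hμ
  set κ := LinearMap.det M * μ with hκ'
  have hκ2 : -κ ≠ 0 := neg_ne_zero.mpr hκ
  obtain ⟨s, δ', A, h1, h2', h3, h4, h5⟩ := h.2 μ (δ / -κ) hμ (div_ne_zero hδ hκ2)
  refine ⟨s, δ', A * (X - C κ), h1, h2'.mul (monic_X_sub_C _), h3.mul (Splits.X_sub_C _), ?_, ?_⟩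
  · rw [mul_coeff_zero, ← mul_assoc, h4]
    simp only [coeff_sub, coeff_X_zero, coeff_C_zero, zero_sub]
    exact div_mul_cancel₀ _ hκ2
  · have := h5.ext_one hF (injective_of_det hM) S l κ
    rw [det_blk_upper, det_sc, mul_comm (LinearMap.det M), mul_assoc l, ← hκ']
    convert this using 1 <;> ring

theorem Good.glue (hF : Big F 3) {M : End F V} (h : Good M) (hM : LinearMap.det M ≠ 0)
    {N : End F W} {w : W} (hw : Cyc N w) {P : F[X]} {e : ℕ} (hP : Irreducible P) (hP' : P.Monic)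
    (he : 0 < e) (hχ : N.charpoly = P ^ e) : Good (M.prodMap N) := by
  have hd := finrank_eq_of_charpoly hχ
  obtain ⟨k, hk⟩ : ∃ k, finrank F W = k + 1 := by
    refine Nat.exists_eq_succ_of_ne_zero ?_
    rw [hd, natDegree_pow]
    exact (Nat.mul_pos he hP.natDegree_pos).ne'
  by_cases h2 : k = 1 → N.charpoly.eval 1 ≠ 0
  · exact h.glue_block hF hM hk hw h2
  · push Not at h2
    obtain ⟨rfl, h2⟩ := h2
    rw [hχ] at h2
    have hs := sim_jb hw (hχ.trans (primary_eq_of_root hP hP' h2 (hd ▸ hk)))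
    have h1 := (h.ext_one hF hM 0 1).ext_one hF (by rw [det_blk_upper, det_sc]; simpa)
      (LinearMap.inr F V F) 1
    refine h1.of_sim (Sim.trans ?_ ((Sim.refl M).prodMap hs.symm))
    exact sim_iff.mpr ⟨LinearEquiv.prodAssoc F V F F, fun x => by simp⟩

/-- The three-dimensional starting case. -/
def Good₃ (M : End F V) : Prop :=
  ∀ μ δ : F, μ ≠ 0 → δ ≠ 0 → ∃ s : F, SL2.Ell s δ ∧
    Fct M ((X - C μ) * quad s δ) ((X - C (LinearMap.det M * μ)) * quad s δ)

theorem Good₃.of_sim {M : End F V} {N : End F W} (h : Good₃ M) (hs : Sim M N) : Good₃ N := by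
  intro μ δ hμ hδ
  obtain ⟨s, h1, h5⟩ := h μ δ hμ hδ
  exact ⟨s, h1, hs.det ▸ h5.of_sim hs⟩

theorem Good₃.good [Nontrivial V] {M : End F V} (h : Good₃ M) : Good M := by
  refine ⟨inferInstance, fun μ δ hμ hδ => ?_⟩
  obtain ⟨s, h1, h5⟩ := h μ δ hμ hδ
  exact ⟨s, δ, 1, h1, monic_one, Splits.one, by simp, by convert h5 using 1 <;> ring⟩

theorem good_of_cyc [Finite F] (hd : 3 ≤ finrank F V) {M : End F V} {v : V} (hv : Cyc M v)
    (hM : LinearMap.det M ≠ 0) : Good M := by
  obtain ⟨k, hk⟩ : ∃ k, finrank F V = k + 3 := ⟨finrank F V - 3, by omega⟩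
  refine ⟨Module.nontrivial_of_finrank_eq_succ hk, fun μ δ hμ hδ => ?_⟩
  have h2 : (-μ) ^ k ≠ 0 := pow_ne_zero _ (neg_ne_zero.mpr hμ)
  obtain ⟨s, hs⟩ := exists_ell_norm (div_ne_zero hδ h2)
  refine ⟨s, _, (X - C μ) ^ k, hs, (monic_X_sub_C _).pow _, (Splits.X_sub_C _).pow _, ?_, ?_⟩
  · rw [coeff_zero_pow_X_sub_C, div_mul_cancel₀ _ h2]
  · convert fct_host hk hv hM hμ hs hs using 1 <;> ring

theorem good₃_of_cyc [Finite F] (hd : finrank F V = 3) {M : End F V} {v : V} (hv : Cyc M v)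
    (hM : LinearMap.det M ≠ 0) : Good₃ M := by
  intro μ δ hμ hδ
  obtain ⟨s, hs⟩ := exists_ell_norm hδ
  exact ⟨s, hs, (cfct_three_host hd hv hM hμ hs hs).fct⟩

theorem fct_three_of_schur [Finite F] (hd : finrank F V = 3) {M : End F V} {v : V} {φ : V →ₗ[F] F}
    (h1 : φ v = 1) (h0 : φ (M v) ≠ 0) {b s s' δ : F} (hb : b ≠ 0) (he : SL2.Ell s δ)
    (he' : SL2.Ell s' δ) (h : ∃ B' : End F (LinearMap.ker φ), B'.charpoly = quad s δ ∧
      (schur M v φ h0 * B').charpoly = quad s' δ) :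
    Fct M ((X - C b) * quad s δ) ((X - C (φ (M v) * b)) * quad s' δ) := by
  have hd' : finrank F (LinearMap.ker φ) = 2 := by
    have := finrank_ker_add_one v φ h1; omega
  obtain ⟨B', k1, k2⟩ := h
  exact fct_of_schur M v φ h1 h0 hb ⟨B', nd_two hd' (not_scalar_of_disc hd' k1 he.disc),
    nd_two hd' (not_scalar_of_disc hd' k2 he'.disc), k1, k2⟩ (ell_eval_ne he _) (ell_eval_ne he' _)

theorem charpoly_smul_two (hd : finrank F V = 2) {B : End F V} {s δ : F} (h : B.charpoly = quad s δ)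
    (l : F) : (l • B).charpoly = quad (l * s) (l ^ 2 * δ) := by
  rw [charpoly_two hd] at h ⊢
  obtain ⟨rfl, rfl⟩ := quad_inj h
  simp [hd]

theorem good₃_jordan [Finite F] {l : F} (hl : l ≠ 0) : Good₃ ((sc l).prodMap (jb l)) := by
  set M := (sc l).prodMap (jb l) with hM
  have hd : finrank F (F × F × F) = 3 := by simp
  have hdet : LinearMap.det M = l ^ 3 := by
    rw [hM, LinearMap.det_prodMap, det_blk_upper, det_sc]; ring
  have htr : LinearMap.trace F _ M = 3 * l := by
    rw [hM, LinearMap.trace_prodMap', trace_blk, trace_sc]; ring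
  have hsq : ∀ x, M (M x) = (2 * l) • M x - (l ^ 2) • x := fun x => by
    ext <;> simp [hM] <;> ring
  have hns : ∀ c : F, M ≠ c • 1 := fun c h => by
    have := LinearMap.congr_fun h (0, 0, 1)
    simp [hM] at this
  have h3 : l ^ 3 ≠ 0 := pow_ne_zero _ hl
  intro μ δ hμ hδ
  obtain ⟨s, hs⟩ := exists_ell_norm hδ
  refine ⟨s, hs, ?_⟩
  by_cases hc : l ^ 2 = 1 ∧ s = s * l
  · let φ : (F × F × F) →ₗ[F] F := LinearMap.fst F F F ∘ₗ LinearMap.snd F F (F × F)
    have h1 : φ (0, 1, 0) = 1 := rfl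
    have h2 : φ (M (0, 1, 0)) = l := by simp [φ, hM]
    have h0 : φ (M (0, 1, 0)) ≠ 0 := by rwa [h2]
    have hd' : finrank F (LinearMap.ker φ) = 2 := by
      have := finrank_ker_add_one _ φ h1; omega
    have e : schur M (0, 1, 0) φ h0 = l • 1 := by
      ext u : 1
      have hu : u.1.2.1 = 0 := u.2
      apply Subtype.ext
      rw [schur_val, h2]
      ext <;> simp [φ, hM, hu]
      field_simp
      ring
    obtain ⟨B', hB'⟩ := exists_charpoly_quad hd' s δ
    have := fct_three_of_schur hd h1 h0 hμ hs hs ⟨B', hB', by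
      rw [e, smul_mul_assoc, one_mul, charpoly_smul_two hd' hB', hc.1, one_mul, mul_comm, ← hc.2]⟩
    rwa [h2, show l = LinearMap.det M by rw [hdet, pow_succ, hc.1, one_mul]] at this
  · obtain ⟨v, φ, h1, h0, h2, hns'⟩ := exists_schur_not_scalar hd.ge hns
      (injective_of_det (hdet ▸ h3)) h3
    have hd' : finrank F (LinearMap.ker φ) = 2 := by
      have := finrank_ker_add_one _ φ h1; omega
    have e1 : LinearMap.det (schur M v φ h0) = 1 := by
      have := det_schur M v φ h1 h0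
      rw [h2, hdet] at this
      exact (mul_left_cancel₀ h3 (by rw [← this, mul_one])).symm
    have e2 : LinearMap.trace F _ (schur M v φ h0) = l + l⁻¹ := by
      rw [trace_schur M v φ h1 h0, hsq, map_sub, map_smul, map_smul, h1, h2, htr]
      simp only [smul_eq_mul]
      field_simp
      ring
    have e3 : (schur M v φ h0).charpoly = quad (l + l⁻¹) 1 := by rw [charpoly_two hd', e1, e2]
    obtain ⟨e, z, hez⟩ : ∃ e z, e ^ 2 - (l + l⁻¹) * e * z + 1 * z ^ 2 - s * e + s * z + δ = 0 := by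
      by_cases hl2 : l ^ 2 = 1
      · have h4 : l⁻¹ = l := (eq_inv_of_mul_eq_one_left (by rw [← sq, hl2])).symm
        have := conic_of_par (l := l) (s := s) (δ := δ) (s' := s) fun h => hc ⟨hl2, h⟩
        rw [← sq, hl2] at this
        rwa [h4]
      · refine conic_of_disc (fun h => hl2 ?_) s δ s
        have : (l ^ 2 - 1) ^ 2 = 0 := by
          field_simp at h
          linear_combination h
        exact sub_eq_zero.mp (pow_eq_zero_iff two_ne_zero |>.mp this)
    have := fct_three_of_schur hd h1 h0 hμ hs hs (by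
      simpa using exists_factor_two hd' hns' e3 hez)
    rwa [h2, ← hdet] at this

theorem good₃_pair [Finite F] (hd : finrank F V = 1) {M : End F V} {N : End F W} {w : W}
    (hw : Cyc N w) {P : F[X]} {e : ℕ} (hP : Irreducible P) (hP' : P.Monic)
    (hχ : N.charpoly = P ^ e) (hd' : finrank F W = 2) (hM : LinearMap.det M ≠ 0)
    (hN : LinearMap.det N ≠ 0) : Good₃ (M.prodMap N) := by
  by_cases h : N.charpoly.eval (LinearMap.det M) = 0
  · rw [hχ] at h
    have hs := sim_jb hw (hχ.trans (primary_eq_of_root hP hP' h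
      (by rw [← finrank_eq_of_charpoly hχ, hd'])))
    exact (good₃_jordan hM).of_sim ((sim_sc hd M).prodMap hs).symm
  · have hv : Cyc (sc (LinearMap.det M)) 1 := fun x => ⟨C x, by simp⟩
    have := hv.prodMap hw (by
      rw [charpoly_sc]
      exact (irreducible_X_sub_C _).coprime_iff_not_dvd.mpr fun hd => h (dvd_iff_isRoot.mp hd))
    exact (good₃_of_cyc (by simp [hd']) this (by
      rw [LinearMap.det_prodMap, det_sc]; exact mul_ne_zero hM hN)).of_sim
      ((sim_sc hd M).prodMap (Sim.refl N)).symm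

omit [FiniteDimensional F V] [FiniteDimensional F W] in
theorem sim_schur_prodMap (M : End F V) (N : End F W) (v : V) (φ : V →ₗ[F] F) (h0 : φ (M v) ≠ 0)
    (h0' : (φ ∘ₗ LinearMap.fst F V W) ((M.prodMap N) (v, 0)) ≠ 0) :
    Sim ((schur M v φ h0).prodMap N) (schur (M.prodMap N) (v, 0) (φ ∘ₗ LinearMap.fst F V W) h0') := by
  refine sim_iff.mpr ⟨LinearEquiv.ofBijective (LinearMap.codRestrict _
    ((LinearMap.ker φ).subtype.prodMap LinearMap.id) fun x => x.1.2) ⟨?_, ?_⟩, fun x => ?_⟩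
  · intro x y h
    have : ((x.1 : V), x.2) = ((y.1 : V), y.2) := congrArg Subtype.val h
    exact Prod.ext (Subtype.ext (Prod.mk.inj this).1) (Prod.mk.inj this).2
  · rintro ⟨⟨a, b⟩, h⟩
    exact ⟨(⟨a, h⟩, b), rfl⟩
  · apply Subtype.ext
    rw [schur_val]
    change ((schur M v φ h0 x.1 : V), N x.2) = (M x.1, N x.2) - ((φ (M v))⁻¹ * φ (M x.1)) • (M v, N 0)
    simp [schur_val]

theorem good_four [Fintype F] (hF : 3 ≤ Fintype.card F) {M : End F V} {v : V} (hv : Cyc M v)
    {N : End F W} {w : W} (hw : Cyc N w) {P Q : F[X]} {e k : ℕ} (hP : Irreducible P) (hP' : P.Monic)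
    (hQ : Irreducible Q) (hQ' : Q.Monic) (hχ : M.charpoly = P ^ e) (hχ' : N.charpoly = Q ^ k)
    (hd : finrank F V = 2) (hd' : finrank F W = 2) (hM : LinearMap.det M ≠ 0)
    (hN : LinearMap.det N ≠ 0) : Good (M.prodMap N) := by
  have hMN : LinearMap.det (M.prodMap N) ≠ 0 := by
    rw [LinearMap.det_prodMap]; exact mul_ne_zero hM hN
  by_cases h : P ^ e = Q ^ k
  · have hdd : LinearMap.det M = LinearMap.det N := by
      have := hχ.trans (h.trans hχ'.symm)
      rw [charpoly_two hd, charpoly_two hd'] at this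
      exact (quad_inj this).2
    obtain ⟨φ, h1, h2⟩ := exists_fun₂ (hv.ne_zero (by omega)) (hv.ne_smul (by omega)) (1 : F) 1
    have h0 : φ (M v) ≠ 0 := by simp [h2]
    have h0' : (φ ∘ₗ LinearMap.fst F V W) ((M.prodMap N) (v, 0)) ≠ 0 := h0
    have hd1 : finrank F (LinearMap.ker φ) = 1 := by
      have := finrank_ker_add_one v φ h1; omega
    have e1 := det_schur M v φ h1 h0
    rw [h2, one_mul] at e1
    have e2 := det_schur (M.prodMap N) (v, 0) (φ ∘ₗ LinearMap.fst F V W) h1 h0'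
    have h2' : (φ ∘ₗ LinearMap.fst F V W) ((M.prodMap N) (v, 0)) = 1 := h2
    rw [h2', one_mul] at e2
    have g3 := (good₃_pair hd1 hw hQ hQ' hχ' hd' (e1 ▸ hM) hN).of_sim
      (sim_schur_prodMap M N v φ h0 h0')
    have : Nontrivial V := Module.nontrivial_of_finrank_eq_succ hd
    refine ⟨inferInstance, fun μ δ hμ hδ => ?_⟩
    obtain ⟨κ, k0, k1, k2⟩ : ∃ κ : F, κ ≠ 0 ∧ κ ≠ μ ∧ κ ≠ LinearMap.det (M.prodMap N) * μ := by
      rcases hF.eq_or_lt with h3 | h4
      · obtain ⟨κ, k0, k1⟩ := (big_of_card hF).exists_ne₂ 0 μ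
        have := FiniteField.pow_card_sub_one_eq_one _ hN
        rw [← h3] at this
        refine ⟨κ, k0, k1, ?_⟩
        rwa [LinearMap.det_prodMap, hdd, ← sq, this, one_mul]
      · exact (big_of_card h4).exists_ne₃ _ _ _
    have hκ2 : -κ ≠ 0 := neg_ne_zero.mpr k0
    obtain ⟨s, hs, h5⟩ := g3 μ (δ / -κ) hμ (div_ne_zero hδ hκ2)
    refine ⟨s, _, X - C κ, hs, monic_X_sub_C _, Splits.X_sub_C _, ?_, ?_⟩
    · simp only [coeff_sub, coeff_X_zero, coeff_C_zero, zero_sub]
      exact div_mul_cancel₀ _ hκ2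
    · have := fct_of_schur (M.prodMap N) (v, 0) (φ ∘ₗ LinearMap.fst F V W) h1 h0' k0 h5
        (by simp [ell_eval_ne hs, sub_eq_zero, k1])
        (by rw [h2', ← e2]; simp [ell_eval_ne hs, sub_eq_zero, k2])
      rw [h2', one_mul, ← e2] at this
      convert this using 1 <;> ring
  · refine good_of_cyc (by simp [hd, hd']) (hv.prodMap hw ?_) hMN
    rw [hχ, hχ']
    exact primary_coprime hP hP' hQ hQ' h (by
      rw [← finrank_eq_of_charpoly hχ, ← finrank_eq_of_charpoly hχ', hd, hd'])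

end General

end Cfsg.Agent.Fac
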