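import Cfsg.Agent.Fac.Conj

/-!
One step of an `LU`-factorisation (Schur complement), and factorisations in dimension two.
-/

set_option autoImplicit false

open Polynomial Module

namespace Cfsg.Agent.Fac

open Cfsg.Agent.GLn

variable {F : Type*} [Field F] {V : Type*} [AddCommGroup V] [Module F V]

section Schur
variable (M : End F V) (v : V) (φ : V →ₗ[F] F)

/-- The Schur complement on `ker φ`. -/
def schur (h0 : φ (M v) ≠ 0) : End F (LinearMap.ker φ) :=
  LinearMap.codRestrict _ (M ∘ₗ (LinearMap.ker φ).subtype -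
    (φ (M v))⁻¹ • (φ ∘ₗ M ∘ₗ (LinearMap.ker φ).subtype).smulRight (M v)) (fun u => by
      simp only [LinearMap.mem_ker, LinearMap.sub_apply, LinearMap.comp_apply, LinearMap.smul_apply,
        LinearMap.smulRight_apply, map_sub, map_smul, smul_eq_mul]
      field_simp
      ring)

theorem schur_val (h0 : φ (M v) ≠ 0) (u : LinearMap.ker φ) :
    (schur M v φ h0 u : V) = M u - ((φ (M v))⁻¹ * φ (M u)) • M v := by
  simp [schur, smul_smul]

/-- The new starting vector. -/
def svec (h1 : φ v = 1) : LinearMap.ker φ := ⟨M v - φ (M v) • v, by simp [h1]⟩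

@[simp] theorem svec_val (h1 : φ v = 1) : (svec M v φ h1 : V) = M v - φ (M v) • v := rfl

/-- Projection onto `ker φ` along `v`. -/
def sproj (h1 : φ v = 1) : V →ₗ[F] LinearMap.ker φ :=
  LinearMap.codRestrict _ (LinearMap.id - φ.smulRight v) (fun u => by simp [h1])

@[simp] theorem sproj_val (h1 : φ v = 1) (x : V) : (sproj v φ h1 x : V) = x - φ x • v := rfl

/-- The splitting `V ≃ F × ker φ`. -/
def ssplit (h1 : φ v = 1) : V ≃ₗ[F] F × LinearMap.ker φ :=
  LinearEquiv.ofLinearMap (φ.prod (sproj v φ h1))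
    ((LinearMap.toSpanSingleton F V v).coprod (LinearMap.ker φ).subtype)
    (LinearMap.ext fun x => by
      have := x.2.2
      rw [LinearMap.mem_ker] at this
      refine Prod.ext ?_ (Subtype.ext ?_) <;> simp [h1, this])
    (LinearMap.ext fun x => by simp)

theorem ssplit_apply (h1 : φ v = 1) (x : V) : ssplit v φ h1 x = (φ x, sproj v φ h1 x) := rfl

theorem ssplit_symm_apply (h1 : φ v = 1) (x : F × LinearMap.ker φ) :
    (ssplit v φ h1).symm x = x.1 • v + x.2 := rfl

theorem finrank_ker_add_one [FiniteDimensional F V] (h1 : φ v = 1) :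
    finrank F V = finrank F (LinearMap.ker φ) + 1 := by
  rw [(ssplit v φ h1).finrank_eq, finrank_prod, finrank_self, add_comm]

/-- The upper triangular factor. -/
def luB (h1 : φ v = 1) (B' : End F (LinearMap.ker φ)) (b : F) : End F V :=
  (ssplit v φ h1).symm.conjAlgEquiv F
    (blk (sc b) (-(φ (M v))⁻¹ • (φ ∘ₗ M ∘ₗ (LinearMap.ker φ).subtype) ∘ₗ B') 0 B')

theorem sim_luB (h1 : φ v = 1) (B' : End F (LinearMap.ker φ)) (b : F) :
    Sim (blk (sc b) (-(φ (M v))⁻¹ • (φ ∘ₗ M ∘ₗ (LinearMap.ker φ).subtype) ∘ₗ B') 0 B')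
      (luB M v φ h1 B' b) := ⟨_, rfl⟩

theorem luB_apply (h1 : φ v = 1) (B' : End F (LinearMap.ker φ)) (b : F) (x : V) :
    luB M v φ h1 B' b x = (b * φ x - (φ (M v))⁻¹ * φ (M (B' (sproj v φ h1 x)))) • v
      + B' (sproj v φ h1 x) := by
  simp [luB, ssplit_symm_apply, ssplit_apply, sub_eq_add_neg]

theorem mul_luB (h1 : φ v = 1) (h0 : φ (M v) ≠ 0) (B' : End F (LinearMap.ker φ)) (b : F) (x : V) :
    ssplit v φ h1 ((M * luB M v φ h1 B' b) x) =
      blk (sc (φ (M v) * b)) 0 (LinearMap.toSpanSingleton F _ (b • svec M v φ h1))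
        (schur M v φ h0 * B') (ssplit v φ h1 x) := by
  rw [End.mul_apply, luB_apply, ssplit_apply, ssplit_apply]
  refine Prod.ext ?_ (Subtype.ext ?_)
  · simp only [map_add, map_smul, smul_eq_mul, blk_apply, LinearMap.smul_apply, End.one_apply,
      LinearMap.zero_apply, add_zero]
    field_simp
    ring
  · simp only [sproj_val, map_add, map_smul, smul_eq_mul, blk_apply,
      LinearMap.toSpanSingleton_apply, End.mul_apply, Submodule.coe_add, schur_val,
      Submodule.coe_smul, svec_val]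
    match_scalars <;> field_simp <;> ring

theorem sim_mul_luB (h1 : φ v = 1) (h0 : φ (M v) ≠ 0) (B' : End F (LinearMap.ker φ)) (b : F) :
    Sim (M * luB M v φ h1 B' b)
      (blk (sc (φ (M v) * b)) 0 (LinearMap.toSpanSingleton F _ (b • svec M v φ h1))
        (schur M v φ h0 * B')) := sim_iff.mpr ⟨_, mul_luB M v φ h1 h0 B' b⟩

theorem luB_self (h1 : φ v = 1) (B' : End F (LinearMap.ker φ)) (b : F) :
    luB M v φ h1 B' b v = b • v := by
  have : sproj v φ h1 v = 0 := Subtype.ext (by simp [h1])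
  simp [luB_apply, this, h1]

theorem left_luB (h1 : φ v = 1) (h0 : φ (M v) ≠ 0) (B' : End F (LinearMap.ker φ)) (b : F) (x : V) :
    φ ((M * luB M v φ h1 B' b) x) = φ (M v) * b * φ x := by
  have := congrArg Prod.fst (mul_luB M v φ h1 h0 B' b x)
  simpa [ssplit_apply] using this

variable [FiniteDimensional F V]

theorem charpoly_luB (h1 : φ v = 1) (B' : End F (LinearMap.ker φ)) (b : F) :
    (luB M v φ h1 B' b).charpoly = (X - C b) * B'.charpoly := by
  rw [← (sim_luB M v φ h1 B' b).charpoly, charpoly_blk_upper, charpoly_sc]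

theorem charpoly_mul_luB (h1 : φ v = 1) (h0 : φ (M v) ≠ 0) (B' : End F (LinearMap.ker φ)) (b : F) :
    (M * luB M v φ h1 B' b).charpoly =
      (X - C (φ (M v) * b)) * (schur M v φ h0 * B').charpoly := by
  rw [(sim_mul_luB M v φ h1 h0 B' b).charpoly, charpoly_blk_lower, charpoly_sc]

theorem det_schur (h1 : φ v = 1) (h0 : φ (M v) ≠ 0) :
    LinearMap.det M = φ (M v) * LinearMap.det (schur M v φ h0) := by
  have e1 := (sim_luB M v φ h1 1 1).det
  have e2 := (sim_mul_luB M v φ h1 h0 1 1).det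
  rw [det_blk_upper, det_sc, map_one, one_mul] at e1
  rw [det_blk_lower, det_sc, map_mul, ← e1] at e2
  simpa using e2

theorem trace_schur (h1 : φ v = 1) (h0 : φ (M v) ≠ 0) :
    LinearMap.trace F _ (schur M v φ h0) = LinearMap.trace F _ M - (φ (M v))⁻¹ * φ (M (M v)) := by
  have e1 : Sim M (blk (sc (φ (M v))) (φ ∘ₗ M ∘ₗ (LinearMap.ker φ).subtype)
      (LinearMap.toSpanSingleton F _ (svec M v φ h1))
      (schur M v φ h0 + (φ (M v))⁻¹ •
        (φ ∘ₗ M ∘ₗ (LinearMap.ker φ).subtype).smulRight (svec M v φ h1))) := by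
    refine sim_iff.mpr ⟨ssplit v φ h1, fun x => ?_⟩
    rw [ssplit_apply, ssplit_apply]
    refine Prod.ext ?_ (Subtype.ext ?_)
    · simp [mul_comm]
    · simp only [sproj_val, blk_apply, LinearMap.toSpanSingleton_apply, Submodule.coe_add,
        Submodule.coe_smul, svec_val, LinearMap.add_apply, schur_val, LinearMap.smul_apply,
        LinearMap.smulRight_apply, LinearMap.comp_apply, Submodule.subtype_apply, map_sub,
        map_smul, smul_eq_mul]
      match_scalars <;> field_simp <;> ring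
  rw [e1.trace, trace_blk, trace_sc, map_add, map_smul, LinearMap.trace_smulRight]
  simp only [LinearMap.comp_apply, Submodule.subtype_apply, svec_val, map_sub, map_smul,
    smul_eq_mul]
  field_simp
  ring

omit [FiniteDimensional F V] in
theorem nd_luB (h1 : φ v = 1) (h0 : φ (M v) ≠ 0) {B' : End F (LinearMap.ker φ)} {b : F}
    (hb : b ≠ 0) (hB' : ND B') (hr : ∀ w : LinearMap.ker φ, w ≠ 0 → B' w = b • w → φ (M w) ≠ 0) :
    ND (luB M v φ h1 B' b) := by
  refine (nd_blk_upper (nd_sc b) hB' fun c w hw hD ⟨u, hu, hu'⟩ a ha => ?_).of_sim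
    (sim_luB M v φ h1 B' b)
  have hc : b = c := by simpa [hu] using hu'
  subst hc
  apply hr w hw hD
  simpa [hD, h0, hb] using ha

omit [FiniteDimensional F V] in
theorem eigen_luB (h1 : φ v = 1) (h0 : φ (M v) ≠ 0) {B' : End F (LinearMap.ker φ)} {b : F}
    (hb : b ≠ 0) (hB' : ND B') (hr : ∀ w : LinearMap.ker φ, w ≠ 0 → B' w = b • w → φ (M w) ≠ 0)
    (w : V) (hw : luB M v φ h1 B' b w = b • w) : ∃ s : F, w = s • v := by
  obtain ⟨w₀, hw₀⟩ := nd_luB M v φ h1 h0 hb hB' hr b
  obtain ⟨s, rfl⟩ := hw₀ w hw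
  obtain ⟨t, ht⟩ := hw₀ v (luB_self M v φ h1 B' b)
  have : t ≠ 0 := by rintro rfl; simp [ht] at h1
  exact ⟨s / t, by rw [ht, smul_smul, div_mul_cancel₀ _ this]⟩

omit [FiniteDimensional F V] in
theorem nd_mul_luB (h1 : φ v = 1) (h0 : φ (M v) ≠ 0) {B' : End F (LinearMap.ker φ)} {b : F}
    (hb : b ≠ 0) (hX : ND (schur M v φ h0 * B'))
    (hc : (∃ u, u ≠ 0 ∧ (schur M v φ h0 * B') u = (φ (M v) * b) • u) →
      ∀ a, (schur M v φ h0 * B') a + svec M v φ h1 ≠ (φ (M v) * b) • a) :
    ND (M * luB M v φ h1 B' b) := by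
  refine (nd_blk_lower (nd_sc _) hX fun c w hw hD hu a ha => ?_).of_sim
    (sim_mul_luB M v φ h1 h0 B' b).symm
  have hc' : φ (M v) * b = c := by simpa [hw] using hD
  subst hc'
  apply hc hu ((w * b)⁻¹ • a)
  rw [LinearMap.toSpanSingleton_apply, smul_smul] at ha
  have h2 : w * b ≠ 0 := mul_ne_zero hw hb
  rw [map_smul, smul_comm, ← ha, smul_add, smul_smul, inv_mul_cancel₀ h2, one_smul]

omit [FiniteDimensional F V] in
theorem cyc_mul_luB (h1 : φ v = 1) (h0 : φ (M v) ≠ 0) {B' : End F (LinearMap.ker φ)} {b : F}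
    (hb : b ≠ 0) (hX : Cyc (schur M v φ h0 * B') (svec M v φ h1)) :
    Cyc (M * luB M v φ h1 B' b) v := by
  have key : Cyc (blk (sc (φ (M v) * b)) 0 (LinearMap.toSpanSingleton F _ (b • svec M v φ h1))
        (schur M v φ h0 * B')) (1, 0) := by
    rw [cyc_iff] at hX ⊢
    intro U hv hU
    have := hX (U.comap (LinearMap.inr F F _)) (by
      have h2 := U.sub_mem (hU _ hv) (U.smul_mem (φ (M v) * b) hv)
      have h3 := U.smul_mem b⁻¹ h2
      simpa [smul_smul, hb] using h3) (fun u hu => by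
        simpa using hU _ hu)
    refine eq_top_iff.mpr fun x _ => ?_
    have h2 : x.2 ∈ U.comap (LinearMap.inr F F _) := this ▸ Submodule.mem_top
    have h3 := U.add_mem (U.smul_mem x.1 hv) h2
    simpa using h3
  have := key.map (ssplit v φ h1).symm (g := M * luB M v φ h1 B' b) (fun x => by
    obtain ⟨x, rfl⟩ := (ssplit v φ h1).surjective x
    rw [← mul_luB, LinearEquiv.symm_apply_apply, LinearEquiv.symm_apply_apply])
  simpa [ssplit_symm_apply] using this

omit [FiniteDimensional F V] in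
theorem cyc_schur (h1 : φ v = 1) (h0 : φ (M v) ≠ 0) (h : Cyc M v) :
    Cyc (schur M v φ h0) (svec M v φ h1) := by
  rw [cyc_iff] at h ⊢
  intro U hv hU
  have := h (U.comap (sproj v φ h1)) (by
    have : sproj v φ h1 v = 0 := Subtype.ext (by simp [h1])
    simp [this]) (fun u hu => by
      simp only [Submodule.mem_comap] at hu ⊢
      have : sproj v φ h1 (M u) = schur M v φ h0 (sproj v φ h1 u) +
          ((φ (M v))⁻¹ * φ (M u)) • svec M v φ h1 := by
        apply Subtype.ext
        simp only [sproj_val, Submodule.coe_add, schur_val, map_sub, map_smul, smul_eq_mul,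
          Submodule.coe_smul, svec_val]
        match_scalars <;> field_simp <;> ring
      rw [this]
      exact U.add_mem (hU _ hu) (U.smul_mem _ hv))
  refine eq_top_iff.mpr fun x _ => ?_
  have h2 : (x : V) ∈ U.comap (sproj v φ h1) := this ▸ Submodule.mem_top
  have h3 : sproj v φ h1 x = x := Subtype.ext (by
    have := x.2
    rw [LinearMap.mem_ker] at this
    simp [this])
  rwa [Submodule.mem_comap, h3] at h2

/-- `LU` step when the new eigenvalues are new. -/
theorem fct_of_schur (h1 : φ v = 1) (h0 : φ (M v) ≠ 0) {p q : F[X]} {b : F} (hb : b ≠ 0)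
    (h : Fct (schur M v φ h0) p q) (hp : p.eval b ≠ 0) (hq : q.eval (φ (M v) * b) ≠ 0) :
    Fct M ((X - C b) * p) ((X - C (φ (M v) * b)) * q) := by
  obtain ⟨B', h2, h3, rfl, rfl⟩ := h
  exact ⟨luB M v φ h1 B' b, nd_luB M v φ h1 h0 hb h2 fun w hw hw' => (hp (isRoot_of_eigen hw hw')).elim,
    nd_mul_luB M v φ h1 h0 hb h3 fun ⟨u, hu, hu'⟩ => (hq (isRoot_of_eigen hu hu')).elim,
    charpoly_luB .., charpoly_mul_luB ..⟩

end Schur

section Func

theorem exists_fun_of_li {ι : Type*} {x : ι → V} (h : LinearIndependent F x) (a : ι → F) :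
    ∃ φ : V →ₗ[F] F, ∀ i, φ (x i) = a i := by
  obtain ⟨φ, hφ⟩ := LinearMap.exists_extend ((Basis.span h).constr F a)
  refine ⟨φ, fun i => ?_⟩
  have := LinearMap.congr_fun hφ (Basis.span h i)
  rw [Basis.constr_basis] at this
  simpa using this

theorem exists_fun₂ {x y : V} (hx : x ≠ 0) (hy : ∀ s : F, y ≠ s • x) (a b : F) :
    ∃ φ : V →ₗ[F] F, φ x = a ∧ φ y = b := by
  obtain ⟨φ, hφ⟩ := exists_fun_of_li (x := ![x, y])
    ((LinearIndependent.pair_iff' hx).mpr fun s hs => hy s hs.symm) ![a, b]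
  exact ⟨φ, hφ 0, hφ 1⟩

theorem exists_fun₃ {x y z : V} (hx : x ≠ 0) (hy : ∀ s : F, y ≠ s • x)
    (hz : ∀ s t : F, z ≠ s • x + t • y) (a b c : F) :
    ∃ φ : V →ₗ[F] F, φ x = a ∧ φ y = b ∧ φ z = c := by
  obtain ⟨φ, h1, h2⟩ := exists_fun₂ hx hy a b
  obtain ⟨ψ, hψ, hψ'⟩ := (Submodule.span F {x, y}).exists_dual_map_eq_bot_of_notMem (x := z) (by
    rw [Submodule.mem_span_pair]
    rintro ⟨s, t, h⟩
    exact hz s t h.symm) inferInstance
  have h3 : ∀ u ∈ Submodule.span F {x, y}, ψ u = 0 := fun u hu => by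
    have := Submodule.mem_map_of_mem (f := ψ) hu
    rwa [hψ'] at this
  have hx' := h3 x (Submodule.subset_span (by simp))
  have hy' := h3 y (Submodule.subset_span (by simp))
  refine ⟨φ + ((c - φ z) / ψ z) • ψ, by simp [h1, hx'], by simp [h2, hy'], ?_⟩
  simp only [LinearMap.add_apply, LinearMap.smul_apply, smul_eq_mul]
  field_simp
  ring

theorem Cyc.ne_zero {M : End F V} {v : V} (h : Cyc M v) (hd : 1 ≤ finrank F V) : v ≠ 0 := by
  rintro rfl
  have := cyc_iff.mp h ⊥ (by simp) (by simp)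
  have h2 : finrank F (⊥ : Submodule F V) = finrank F V := by rw [this, finrank_top]
  rw [finrank_bot] at h2
  omega

theorem Cyc.ne_smul {M : End F V} {v : V} (h : Cyc M v) (hd : 2 ≤ finrank F V) (s : F) :
    M v ≠ s • v := by
  intro hs
  have := cyc_iff.mp h (Submodule.span F {v}) (Submodule.mem_span_singleton_self v) (fun u hu => by
    obtain ⟨t, rfl⟩ := Submodule.mem_span_singleton.mp hu
    rw [map_smul, hs]
    exact Submodule.smul_mem _ _ (Submodule.smul_mem _ _ (Submodule.mem_span_singleton_self v)))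
  have h2 : finrank F (Submodule.span F {v}) ≤ 1 := by
    simpa using finrank_span_le_card ({v} : Set V)
  rw [this, finrank_top] at h2
  omega

theorem finrank_span_pair_le (x y : V) : finrank F (Submodule.span F {x, y}) ≤ 2 := by
  classical
  have := finrank_span_finset_le_card (R := F) ({x, y} : Finset V)
  rw [Set.finrank, Finset.coe_insert, Finset.coe_singleton] at this
  exact this.trans Finset.card_le_two

theorem Cyc.ne_comb {M : End F V} {v : V} (h : Cyc M v) (hd : 3 ≤ finrank F V) (s t : F) :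
    M (M v) ≠ s • v + t • M v := by
  intro hs
  have hv : v ∈ Submodule.span F {v, M v} := Submodule.subset_span (by simp)
  have hv' : M v ∈ Submodule.span F {v, M v} := Submodule.subset_span (by simp)
  have := cyc_iff.mp h (Submodule.span F {v, M v}) hv (fun u hu => by
    obtain ⟨a, b, rfl⟩ := Submodule.mem_span_pair.mp hu
    rw [map_add, map_smul, map_smul, hs]
    exact add_mem (Submodule.smul_mem _ _ hv') (Submodule.smul_mem _ _
      (add_mem (Submodule.smul_mem _ _ hv) (Submodule.smul_mem _ _ hv'))))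
  have h2 := finrank_span_pair_le (F := F) v (M v)
  rw [this, finrank_top] at h2
  omega

/-- A non-scalar map has a vector which is not an eigenvector. -/
theorem exists_not_eigen {M : End F V} (h : ∀ c : F, M ≠ c • 1) :
    ∃ v, v ≠ 0 ∧ ∀ s : F, M v ≠ s • v := by
  by_contra hc
  push Not at hc
  have h1 : ∀ v, ∃ s : F, M v = s • v := fun v => by
    by_cases hv : v = 0
    · exact ⟨0, by simp [hv]⟩
    · exact hc v hv
  obtain ⟨s, hs⟩ := LinearMap.exists_eq_smul_id_of_forall_notLinearIndependent (f := M) (fun v => by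
    obtain ⟨s, hs⟩ := h1 v
    rw [LinearIndependent.pair_iff]
    push Not
    exact ⟨s, -1, by simp [hs], by simp⟩)
  exact h s hs

end Func

end Cfsg.Agent.Fac
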