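import Cfsg.Agent.Ore.Lev

/-!
Every non-scalar map of determinant one is a quotient of two regular elements with a single eigenvalue.
-/

set_option autoImplicit false

open Polynomial Module

namespace Cfsg.Agent.Fac

open Cfsg.Agent.GLn Cfsg.Agent.Ore

universe u

variable {K : Type u} [Field K]

theorem levU_two (h : Big K 4) {V : Type*} [AddCommGroup V] [Module K V] [FiniteDimensional K V]
    (hd : finrank K V = 2) {M : End K V} (hns : ∀ c : K, M ≠ c • 1)
    (hN : finrank K (LinearMap.ker (M - 1)) + 2 ≤ finrank K V) {ψ : V →ₗ[K] K} (hψ : ψ ≠ 0) (t : V) (ht : t ≠ 0) :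
    ∃ (v : V) (φ : V →ₗ[K] K) (_ : φ v = 1), φ (M v) = 1 ∧ ψ v ≠ 0 ∧ φ t ≠ 0 ∧
      φ ∘ₗ M ∘ₗ (LinearMap.ker φ).subtype ≠ 0 ∧ M v ≠ v := by
  have hψ' : LinearMap.ker ψ ≠ ⊤ := by simpa using hψ
  have hker : ∀ c : K, LinearMap.ker (M - c • 1) ≠ ⊤ := fun c h => hns c (by
    rwa [LinearMap.ker_eq_top, sub_eq_zero] at h)
  have hNi : Function.Injective (M - 1 : End K V) := LinearMap.ker_eq_bot.1 (Submodule.finrank_eq_zero.mp (by omega))
  obtain ⟨R, Z, r1, r2, r4⟩ : ∃ R Z : Submodule K V, R ≠ ⊤ ∧ Z ≠ ⊤ ∧ ∀ v (s : K), M v = s • v → v ∈ R ∨ v ∈ Z := by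
    by_cases hb' : ∃ (c : K) (u : V), u ≠ 0 ∧ M u = c • u
    · obtain ⟨c, u, u0, hu⟩ := hb'
      refine ⟨LinearMap.range (M - c • 1), _, fun h => u0 ((LinearMap.injective_iff_surjective.mpr
        (LinearMap.range_eq_top.mp h)) (by simp [hu])), hker c, fun v s hs => ?_⟩
      by_cases he : s = c
      · exact Or.inr (by simp [hs, he])
      · exact Or.inl ⟨(s - c)⁻¹ • v, by simp [hs, ← sub_smul, smul_smul, sub_ne_zero.mpr he]⟩
    · exact ⟨LinearMap.ker ψ, LinearMap.ker ψ, hψ', hψ', fun v s hs => Or.inl (by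
        obtain rfl : v = 0 := by_contra fun h0 => hb' ⟨s, v, h0, hs⟩
        simp)⟩
  obtain ⟨v, v1, v2, v3, v4⟩ := exists_avoid₄ h hψ' (comap_span_ne_top hN t) r1 r2
  have v0 : v ≠ 0 := by rintro rfl; simp at v1
  have v5 : ∀ s : K, M v ≠ s • v := fun s hs => (r4 v s hs).elim v3 v4
  obtain ⟨φ, a1, a2⟩ := exists_fun₂ v0 v5 (1 : K) 1
  have n0 : M v - v ≠ 0 := fun e => v5 1 (by rw [one_smul]; exact sub_eq_zero.1 e)
  have a3 : φ (M v - v) = 0 := by simp [a1, a2]
  have k : ∀ x, φ x = 0 → ∃ s : K, x = s • (M v - v) := fun x hx => by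
    have := finrank_ker_add_one v φ a1
    obtain ⟨s, hs⟩ := (finrank_eq_one_iff_of_nonzero' (⟨M v - v, a3⟩ : LinearMap.ker φ)
      (fun e => n0 (congrArg Subtype.val e))).1 (show finrank K (LinearMap.ker φ) = 1 by omega) ⟨x, hx⟩
    exact ⟨s, (congrArg Subtype.val hs).symm⟩
  refine ⟨v, φ, a1, a2, v1, fun e => v2 ?_, fun e => ?_, fun e => n0 (sub_eq_zero.2 e)⟩
  · obtain ⟨s, hs⟩ := k t e
    have : s ≠ 0 := by rintro rfl; exact ht (by simpa using hs)
    exact Submodule.mem_span_singleton.mpr ⟨s⁻¹, by rw [hs, smul_smul]; simp [this]⟩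
  · obtain ⟨s, hs⟩ := k _ (LinearMap.congr_fun e ⟨M v - v, a3⟩)
    exact v5 s (hNi (by simpa [smul_sub] using hs))

theorem levU_ind (h : Big K 4) {a : K} (ha : a ≠ 0)
    (k : ℕ) : ∀ (V : Type u) [AddCommGroup V] [Module K V] [FiniteDimensional K V] (M : End K V),
    finrank K V = k + 1 → LinearMap.det M = 1 → (k ≠ 0 → (∀ c : K, M ≠ c • 1) ∧
    finrank K (LinearMap.ker (M - 1)) + 2 ≤ finrank K V) → ∀ (ψ : V →ₗ[K] K) (t : V), ψ ≠ 0 → t ≠ 0 →
    ∃ B : End K V, ND B ∧ ND (M * B) ∧ B.charpoly = (X - C a) ^ (k + 1) ∧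
      (M * B).charpoly = (X - C a) ^ (k + 1) ∧ (∀ w, w ≠ 0 → B w = a • w → ψ w ≠ 0) ∧
      ((∃ u, u ≠ 0 ∧ (M * B) u = a • u) → ∀ x, (M * B) x + t ≠ a • x) := by
  induction k with
  | zero =>
    intro V _ _ _ M hd hM _ ψ t hψ ht
    obtain rfl : M = 1 := by simpa [hM] using eq_smul_of_sim_sc (sim_sc hd M)
    have e : Sim (a • (1 : End K V)) (sc a) := by simpa [LinearMap.det_smul, hd] using sim_sc hd (a • (1 : End K V))
    refine ⟨a • 1, (nd_sc a).of_sim e.symm, by simpa using (nd_sc a).of_sim e.symm, by simp [e.charpoly, charpoly_sc],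
      by simp [e.charpoly, charpoly_sc], fun w w0 _ hw => hψ (LinearMap.ext fun x => ?_), fun _ x => by simpa using ht⟩
    obtain ⟨s, rfl⟩ := (finrank_eq_one_iff_of_nonzero' w w0).1 hd x
    simp [hw]
  | succ k ih =>
    intro V _ _ _ M hd hM hns ψ t hψ ht
    obtain ⟨hns, hN⟩ := hns (by omega)
    obtain ⟨v, φ, h1, h0, e1, e2, e3, e4, e5, e6⟩ : ∃ (v : V) (φ : V →ₗ[K] K) (_ : φ v = 1) (h0 : φ (M v) ≠ 0),
        φ (M v) = 1 ∧ ψ v ≠ 0 ∧ φ t ≠ 0 ∧ φ ∘ₗ M ∘ₗ (LinearMap.ker φ).subtype ≠ 0 ∧ M v ≠ v ∧ (k ≠ 0 →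
          (∀ c : K, schur M v φ h0 ≠ c • 1) ∧
            finrank K (LinearMap.ker (schur M v φ h0 - 1)) + 2 ≤ finrank K (LinearMap.ker φ)) := by
      by_cases hk : k = 0
      · obtain ⟨v, φ, h1, e1, e2, e3, e4, e5⟩ := levU_two h (by omega) hns hN hψ t ht
        exact ⟨v, φ, h1, by simp [e1], e1, e2, e3, e4, e5, fun h => (h hk).elim⟩
      · obtain ⟨v, φ, h1, h0, e1, e2, e3, e4, e5, e6⟩ := lev_step h (by omega) hM hns hN hψ ht
        exact ⟨v, φ, h1, h0, e1, e2, e3, e4, e5, fun _ => e6⟩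
    have := finrank_ker_add_one v φ h1
    obtain ⟨B, b1, b2, b3, b4, b5, b6⟩ := ih _ (schur M v φ h0) (by omega)
      (by simpa [hM, e1] using (det_schur M v φ h1 h0).symm) e6 _ (svec M v φ h1) e4
      (fun h => e5 (by simpa [e1, sub_eq_zero] using congrArg Subtype.val h))
    refine ⟨luB M v φ h1 B a, nd_luB M v φ h1 h0 ha b1 b5,
      nd_mul_luB M v φ h1 h0 ha b2 (by simpa only [e1, one_mul] using b6),
      by rw [charpoly_luB, b3]; ring, by rw [charpoly_mul_luB _ _ _ _ h0, b4, e1, one_mul]; ring,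
      fun w w0 hw => ?_, fun _ x hx => e3 ?_⟩
    · obtain ⟨r, rfl⟩ := eigen_luB M v φ h1 h0 ha b1 b5 w hw
      simpa [e2] using fun h => w0 (by simp [h])
    · have := congrArg φ hx
      rw [map_add, left_luB _ _ _ _ h0, e1] at this
      simpa using this

theorem levU_rank_one (a : K) (h : Big K 3)
    (k : ℕ) : ∀ (V : Type u) [AddCommGroup V] [Module K V] [FiniteDimensional K V]
    (θ : V →ₗ[K] K) (u : V), finrank K V = k + 1 → θ u = 0 →
    Fct (1 + θ.smulRight u) ((X - C a) ^ (k + 1)) ((X - C a) ^ (k + 1)) := by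
  induction k with
  | zero =>
    intro V _ _ _ θ u hd hu
    have e0 : θ.smulRight u = 0 := LinearMap.ext fun x => by
      by_cases u0 : u = 0
      · simp [u0]
      · obtain ⟨s, rfl⟩ := (finrank_eq_one_iff_of_nonzero' u u0).1 hd x
        simp [hu]
    have e : Sim (a • (1 : End K V)) (sc a) := by simpa [LinearMap.det_smul, hd] using sim_sc hd (a • (1 : End K V))
    rw [e0, add_zero]
    exact ⟨a • 1, (nd_sc a).of_sim e.symm, by simpa using (nd_sc a).of_sim e.symm, by simp [e.charpoly, charpoly_sc],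
      by simp [e.charpoly, charpoly_sc]⟩
  | succ k ih =>
    intro V _ _ _ θ u hd hu
    obtain ⟨φ, φ0, hφ⟩ := (K ∙ u).exists_le_ker_of_lt_top (lt_top_iff_ne_top.mpr fun h => by
      have h2 : finrank K (K ∙ u) ≤ 1 := by
        simpa using finrank_span_le_card (R := K) ({u} : Set V)
      rw [h, finrank_top] at h2
      omega)
    have hu' : φ u = 0 := hφ (Submodule.mem_span_singleton_self u)
    obtain ⟨v, h1⟩ := LinearMap.surjective φ0 1
    have := finrank_ker_add_one v φ h1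
    have : Nontrivial (LinearMap.ker φ) := Module.nontrivial_of_finrank_pos (R := K) (by omega)
    let u' : LinearMap.ker φ := ⟨u, hu'⟩
    let θ' := θ ∘ₗ (LinearMap.ker φ).subtype
    have h2 := (ih _ θ' u' (by omega) hu).ext_one h (fun x y hxy => by
      have h3 := congrArg θ' hxy
      have h4 : θ' u' = 0 := hu
      simp only [LinearMap.add_apply, Module.End.one_apply, LinearMap.smulRight_apply, map_add,
        map_smul, h4, smul_zero, add_zero] at h3 hxy
      simpa [h3] using hxy) (LinearMap.toSpanSingleton K _ (θ v • u')) 1 a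
    rw [one_mul, ← pow_succ] at h2
    refine h2.of_sim ((sim_blk_swap _ _ _ _).trans (Sim.symm (sim_iff.mpr ⟨ssplit v φ h1,
      fun x => ?_⟩)))
    refine Prod.ext ?_ (Subtype.ext ?_)
    · simp [ssplit_apply, hu']
    · simp [ssplit_apply, hu', u', θ', smul_smul, sub_smul]
      abel

theorem exists_rank_one_form {V : Type*} [AddCommGroup V] [Module K V] [FiniteDimensional K V] {M : End K V}
    (hN : finrank K V ≤ finrank K (LinearMap.ker (M - 1)) + 1) :
    ∃ (θ : V →ₗ[K] K) (u : V), M = 1 + θ.smulRight u := by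
  obtain ⟨u, hu⟩ := finrank_le_one_iff.mp (show finrank K (LinearMap.range (M - 1)) ≤ 1 by
    have := (M - 1).finrank_range_add_finrank_ker; omega)
  by_cases h0 : (u : V) = 0
  · refine ⟨0, u, LinearMap.ext fun x => ?_⟩
    obtain ⟨c, hc⟩ := hu ⟨_, x, rfl⟩
    simpa [h0, eq_sub_iff_add_eq, eq_comm] using congrArg Subtype.val hc
  · obtain ⟨φ, hφ⟩ := Module.Projective.exists_dual_eq_one K h0
    refine ⟨φ ∘ₗ (M - 1), u, LinearMap.ext fun x => ?_⟩
    obtain ⟨c, hc⟩ := hu ⟨_, x, rfl⟩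
    have hc' : c • (u : V) = (M - 1) x := congrArg Subtype.val hc
    rw [LinearMap.add_apply, LinearMap.smulRight_apply, LinearMap.comp_apply, ← hc', map_smul, hφ,
      smul_eq_mul, mul_one, hc']
    simp

theorem det_rank_one {V : Type*} [AddCommGroup V] [Module K V] [FiniteDimensional K V] (θ : V →ₗ[K] K) (u : V) :
    LinearMap.det (1 + θ.smulRight u) = 1 + θ u := by
  classical
  let b := Module.finBasis K V
  rw [← LinearMap.det_toMatrix b, map_add, LinearMap.toMatrix_one, LinearMap.toMatrix_smulRight,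
    Matrix.vecMulVec_eq Unit, Matrix.det_one_add_replicateCol_mul_replicateRow]
  congr 1
  conv_rhs => rw [← b.sum_repr u, map_sum]
  simp [dotProduct, mul_comm]

/-- Lev's factorisation with a single eigenvalue. -/
theorem fct_unip (h : Big K 4) {a : K} (ha : a ≠ 0) {V : Type u} [AddCommGroup V] [Module K V] [FiniteDimensional K V]
    {M : End K V} (hM : LinearMap.det M = 1) (hns : ∀ c : K, M ≠ c • 1) :
    Fct M ((X - C a) ^ finrank K V) ((X - C a) ^ finrank K V) := by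
  have : Nontrivial V := by
    by_contra h0
    rw [not_nontrivial_iff_subsingleton] at h0
    exact hns 0 (Subsingleton.elim _ _)
  obtain ⟨k, hk⟩ := Nat.exists_eq_add_one.2 (finrank_pos (R := K) (M := V))
  rw [hk]
  by_cases hN : finrank K (LinearMap.ker (M - 1)) + 2 ≤ finrank K V
  · obtain ⟨v, hv⟩ := exists_ne (0 : V)
    obtain ⟨φ, hφ⟩ := Module.Projective.exists_dual_eq_one K hv
    obtain ⟨B, b1, b2, b3, b4, -⟩ := levU_ind h ha k V M hk hM (fun _ => ⟨hns, hN⟩) φ v (by rintro rfl; simp at hφ) hv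
    exact ⟨B, b1, b2, b3, b4⟩
  obtain ⟨θ, u, rfl⟩ := exists_rank_one_form (M := M) (by omega)
  exact levU_rank_one a (h.mono (by omega)) k V θ u hk (by simpa [det_rank_one] using hM)

end Cfsg.Agent.Fac
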