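import Cfsg.Agent.Fac.Good

/-!
Every element of `SL_n(q)` is a commutator, except for `SL_2(2)` and `SL_2(3)`.
-/

set_option autoImplicit false

open Polynomial Module

namespace Cfsg.Agent.Fac

open Cfsg.Agent.GLn

universe u

section Diag
variable {F : Type*} [Field F] {V W : Type*} [AddCommGroup V] [Module F V]
  [AddCommGroup W] [Module F W]

theorem sim_of_mul_eq [FiniteDimensional F V] {D B Y : End F V} (hD : Function.Injective D)
    (h : D * B = Y * D) : Sim B Y :=
  sim_iff.mpr ⟨LinearEquiv.ofInjectiveEndo D hD, fun v => LinearMap.congr_fun h v⟩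

theorem detFull_of_X_pow_sub [Finite F] [FiniteDimensional F V] {B : End F V} {n k : ℕ} (hn : 0 < n)
    (h : B.charpoly = X ^ n - C ((-1) ^ k)) : DetFull B := by
  obtain ⟨p, hp⟩ := CharP.exists F
  have : Fact p.Prime := ⟨CharP.char_is_prime F p⟩
  obtain ⟨s, m, hm, rfl⟩ := Nat.exists_eq_pow_mul_and_not_dvd hn.ne' p (Fact.out : p.Prime).ne_one
  have hm0 : (m : F) ≠ 0 := fun h => hm ((CharP.cast_eq_zero_iff F p m).mp h)
  have hsep := separable_X_pow_sub_C ((-1 : F) ^ k) hm0 (by simp)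
  have hm1 : 0 < m := Nat.pos_of_ne_zero (by rintro rfl; simp at hm)
  obtain ⟨P, hP', hP, R, hR⟩ := exists_monic_irreducible_factor (X ^ m - C ((-1 : F) ^ k))
    (not_isUnit_of_natDegree_pos _ (by rwa [natDegree_X_pow_sub_C]))
  have hc : IsCoprime P R := (hR ▸ hsep).isCoprime
  refine detFull_of_charpoly (e := p ^ s) (R := R ^ p ^ s) hP hP' hc.pow_right ?_ fun t => ?_
  · rw [h, ← mul_pow, ← hR, sub_pow_char_pow, ← pow_mul, mul_comm m, ← C_pow, ← pow_mul,
      mul_comm k, pow_mul (-1 : F), neg_one_pow_char_pow]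
  · obtain ⟨x, hx⟩ := (iterateFrobeniusEquiv F p s).surjective t
    rw [iterateFrobeniusEquiv_def] at hx
    have hx0 : x ≠ 0 := by
      rintro rfl
      rw [zero_pow (pow_pos (Fact.out : p.Prime).pos s).ne'] at hx
      exact t.ne_zero hx.symm
    exact ⟨Units.mk0 x hx0, Units.ext (by simpa using hx)⟩

/-- `M` is diagonalisable. -/
def Diag (M : End F V) : Prop :=
  ∃ (ι : Type) (_ : Fintype ι) (b : Basis ι F V) (l : ι → F), ∀ i, M (b i) = l i • b i

theorem Diag.of_sim {M : End F V} {N : End F W} (h : Diag M) (hs : Sim M N) : Diag N := by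
  obtain ⟨e, he⟩ := sim_iff.mp hs
  obtain ⟨ι, _, b, l, h⟩ := h
  exact ⟨ι, inferInstance, b.map e, l, fun i => by simp [← he, h]⟩

theorem Diag.prodMap {M : End F V} {N : End F W} (h : Diag M) (h' : Diag N) :
    Diag (M.prodMap N) := by
  obtain ⟨ι, _, b, l, h⟩ := h
  obtain ⟨κ, _, b', l', h'⟩ := h'
  exact ⟨ι ⊕ κ, inferInstance, b.prod b', Sum.elim l l', fun i => by
    cases i <;> simp [h, h']⟩

theorem diag_smul_one [FiniteDimensional F V] (c : F) : Diag (c • (1 : End F V)) :=
  ⟨_, inferInstance, Module.finBasis F V, fun _ => c, fun i => by simp⟩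

theorem det_of_diag {ι : Type*} [Fintype ι] (b : Basis ι F V) {M : End F V} {l : ι → F}
    (h : ∀ i, M (b i) = l i • b i) : LinearMap.det M = ∏ i, l i := by
  classical
  rw [← LinearMap.det_toMatrix b, ← Matrix.det_diagonal]
  congr 1
  ext i j
  by_cases hij : i = j
  · subst hij; simp [LinearMap.toMatrix_apply, h]
  · simp [LinearMap.toMatrix_apply, h, hij, Finsupp.single_eq_of_ne]

theorem Diag.comm [Finite F] {M : End F V} (h : Diag M) (hd : LinearMap.det M = 1) : Comm M := by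
  obtain ⟨ι, _, b, l, h⟩ := h
  rw [det_of_diag b h] at hd
  obtain h0 | hn := Nat.eq_zero_or_pos (Fintype.card ι)
  · have : IsEmpty ι := Fintype.card_eq_zero_iff.mp h0
    have : M = 1 := b.ext fun i => isEmptyElim i
    exact this ▸ comm_one
  set n := Fintype.card ι with hn'
  set f : F[X] := X ^ n - C ((-1) ^ (n + 1)) with hf
  have hf' : f.Monic := monic_X_pow_sub_C _ hn.ne'
  have := hf'.finite_adjoinRoot
  let pb := AdjoinRoot.powerBasis hf'.ne_zero
  have hdim : pb.dim = n := natDegree_X_pow_sub_C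
  let σ : Fin pb.dim ≃ ι := Fintype.equivOfCardEq (by simp [hdim, hn'])
  let l' : ℕ → F := fun j => if h : j < pb.dim then l (σ ⟨j, h⟩) else 1
  have hl' : ∀ j : Fin pb.dim, l' j = l (σ j) := fun j => by simp [l', j.2]
  have hprod : ∏ j ∈ Finset.range n, l' j = 1 := by
    rw [← hdim, Finset.prod_range, ← hd, ← Equiv.prod_comp σ]
    exact Finset.prod_congr rfl fun j _ => hl' j
  have hl0 : ∀ j, j < n → l' j ≠ 0 := fun j hj h0 => by
    rw [Finset.prod_eq_zero (Finset.mem_range.mpr hj) h0] at hprod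
    exact zero_ne_one hprod
  let M' : End F (AdjoinRoot f) := pb.basis.constr F fun j => l' j • pb.basis j
  let d : ℕ → F := fun i => ∏ j ∈ Finset.range (i + 1), l' j
  let D : End F (AdjoinRoot f) := pb.basis.constr F fun j => d j • pb.basis j
  let B : End F (AdjoinRoot f) := Algebra.lmul F _ (AdjoinRoot.root f)
  have hM' : ∀ j, j < n → M' (pb.gen ^ j) = l' j • pb.gen ^ j := fun j hj => by
    have := pb.basis.constr_basis F (fun j => l' j • pb.basis j) ⟨j, hdim ▸ hj⟩
    rwa [pb.basis_eq_pow] at this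
  have hD : ∀ j, j < n → D (pb.gen ^ j) = d j • pb.gen ^ j := fun j hj => by
    have := pb.basis.constr_basis F (fun j => d j • pb.basis j) ⟨j, hdim ▸ hj⟩
    rwa [pb.basis_eq_pow] at this
  have hB : ∀ j, B (pb.gen ^ j) = pb.gen ^ (j + 1) := fun j => by
    rw [pow_succ']; rfl
  have hgen : pb.gen ^ n = ((-1 : F) ^ (n + 1)) • pb.gen ^ 0 := by
    have := AdjoinRoot.eval₂_root f
    rw [hf, eval₂_sub, eval₂_pow, eval₂_X, eval₂_C, sub_eq_zero] at this
    rw [pow_zero, ← Algebra.algebraMap_eq_smul_one]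
    exact this
  have hsim : Sim M M' := sim_iff.mpr ⟨b.equiv pb.basis σ.symm, fun v => by
    have : (b.equiv pb.basis σ.symm).toLinearMap ∘ₗ M = M' ∘ₗ (b.equiv pb.basis σ.symm).toLinearMap :=
      b.ext fun i => by
        simp only [LinearMap.comp_apply, LinearEquiv.coe_coe, h, map_smul, Basis.equiv_apply, M',
          Basis.constr_basis, hl', Equiv.apply_symm_apply]
    exact LinearMap.congr_fun this v⟩
  have hχ : B.charpoly = f := charpoly_root hf'
  refine Comm.of_sim (comm_of_sim (B := B) (sim_of_mul_eq (D := D) ?_ ?_)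
    (detFull_of_X_pow_sub hn hχ) ?_) hsim.symm
  · refine injective_of_det ?_
    rw [det_of_diag pb.basis (fun j => pb.basis.constr_basis F _ j)]
    refine Finset.prod_ne_zero_iff.mpr fun j _ => Finset.prod_ne_zero_iff.mpr fun i hi => hl0 i ?_
    have := j.2
    have := Finset.mem_range.mp hi
    omega
  · refine pb.basis.ext fun j => ?_
    have hj : (j : ℕ) < n := hdim ▸ j.2
    rw [pb.basis_eq_pow, End.mul_apply, End.mul_apply, End.mul_apply, hB, hD j hj, map_smul,
      map_smul, hB]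
    rcases (Nat.succ_le_of_lt hj).eq_or_lt with h1 | h1
    · have h2 : (j : ℕ) + 1 = n := h1
      have h3 : d j = 1 := by simp only [d]; rw [h2, hprod]
      rw [h2, hgen, map_smul, map_smul, hD 0 hn, hM' 0 hn, h3, one_smul]
      simp [d]
    · rw [hD _ h1, hM' _ h1, smul_smul]
      simp only [d]
      rw [Finset.prod_range_succ _ (j + 1)]
  · rw [LinearMap.det_eq_sign_charpoly_coeff, hχ, finrank_eq_of_charpoly hχ, hf,
      natDegree_X_pow_sub_C]
    rw [coeff_sub, coeff_X_pow, coeff_C_zero, if_neg hn.ne]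
    simp [pow_succ, ← mul_pow]

end Diag

section Main
variable {F : Type u} [Field F]

theorem blocks_ind
    (P : ∀ (V : Type u) [AddCommGroup V] [Module F V] [FiniteDimensional F V], End F V → Prop)
    (H R : Multiset (F[X] × ℕ))
    (hsim : ∀ (V W : Type u) [AddCommGroup V] [Module F V] [FiniteDimensional F V]
      [AddCommGroup W] [Module F W] [FiniteDimensional F W] (M : End F V) (N : End F W),
      P V M → Sim M N → P W N)
    (hbase : ∀ (V : Type u) [AddCommGroup V] [Module F V] [FiniteDimensional F V] (M : End F V),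
      Blocks M H → LinearMap.det M ≠ 0 → P V M)
    (hstep : ∀ x ∈ R, ∀ (V W : Type u) [AddCommGroup V] [Module F V] [FiniteDimensional F V]
      [AddCommGroup W] [Module F W] [FiniteDimensional F W] (M : End F V) (N : End F W) (w : W),
      P V M → LinearMap.det M ≠ 0 → LinearMap.det N ≠ 0 → Cyc N w → N.charpoly = x.1 ^ x.2 →
      P (V × W) (M.prodMap N))
    (hR : ∀ x ∈ R, x.1.Monic) (V : Type u) [AddCommGroup V] [Module F V] [FiniteDimensional F V]
    (M : End F V) (h : Blocks M (R + H)) (hM : LinearMap.det M ≠ 0) : P V M := by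
  induction R using Multiset.induction_on generalizing V with
  | empty => exact hbase V M (by simpa using h) hM
  | cons x R ih =>
    rw [Multiset.cons_add] at h
    obtain ⟨V₁, _, _, _, V₂, _, _, _, M₁, M₂, v, h1, h2, h3, h4⟩ :=
      h.cons (hR x (Multiset.mem_cons_self _ _))
    rw [← h4.det, LinearMap.det_prodMap] at hM
    refine hsim _ _ _ _ (hstep x (Multiset.mem_cons_self _ _) V₁ V₂ M₁ M₂ v
      (ih (fun y hy => hstep y (Multiset.mem_cons_of_mem hy))
        (fun y hy => hR y (Multiset.mem_cons_of_mem hy)) V₁ M₁ h1 (left_ne_zero_of_mul hM))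
      (left_ne_zero_of_mul hM) (right_ne_zero_of_mul hM) h2 h3) h4

variable {V : Type u} [AddCommGroup V] [Module F V] [FiniteDimensional F V]

theorem one_le_deg {L : Multiset (F[X] × ℕ)} (hL : ValidED L) {x : F[X] × ℕ} (hx : x ∈ L) :
    1 ≤ (x.1 ^ x.2).natDegree := by
  rw [natDegree_pow]
  exact Nat.mul_pos (hL x hx).2.2 (hL x hx).1.natDegree_pos

theorem exists_mem_erase {M : End F V} {L : Multiset (F[X] × ℕ)} (hL : ValidED L) (h : Blocks M L)
    {x : F[X] × ℕ} (hx : x ∈ L) (hd : (x.1 ^ x.2).natDegree < finrank F V) :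
    ∃ y R, L = R + {x, y} := by
  obtain ⟨L', rfl⟩ := Multiset.exists_cons_of_mem hx
  rcases Multiset.empty_or_exists_mem L' with rfl | ⟨y, hy⟩
  · have := finrank_eq_of_charpoly (Blocks.single h (hL x hx).2.1).2
    omega
  · obtain ⟨R, rfl⟩ := Multiset.exists_cons_of_mem hy
    exact ⟨y, R, by
      rw [Multiset.insert_eq_cons, Multiset.add_cons, add_comm, Multiset.singleton_add]⟩

theorem exists_pair {L : Multiset (F[X] × ℕ)} {x y : F[X] × ℕ} (hx : x ∈ L) (hy : y ∈ L)
    (hxy : x ≠ y) : ∃ R, L = R + {x, y} := by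
  obtain ⟨L', rfl⟩ := Multiset.exists_cons_of_mem hx
  obtain ⟨R, rfl⟩ := Multiset.exists_cons_of_mem ((Multiset.mem_cons.mp hy).resolve_left hxy.symm)
  exact ⟨R, by rw [Multiset.insert_eq_cons, Multiset.add_cons, add_comm, Multiset.singleton_add]⟩

theorem exists_single {L : Multiset (F[X] × ℕ)} {x : F[X] × ℕ} (hx : x ∈ L) : ∃ R, L = R + {x} := by
  obtain ⟨L', rfl⟩ := Multiset.exists_cons_of_mem hx
  exact ⟨L', by rw [add_comm, Multiset.singleton_add]⟩

theorem diag_of_blocks {M : End F V} {L : Multiset (F[X] × ℕ)} (hL : ValidED L) (h : Blocks M L)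
    (hM : LinearMap.det M ≠ 0) (h1 : ∀ x ∈ L, (x.1 ^ x.2).natDegree = 1) : Diag M := by
  refine blocks_ind (fun _ _ _ _ M => Diag M) 0 L (fun _ _ _ _ _ _ _ _ _ _ h hs => h.of_sim hs)
    (fun V _ _ _ M h _ => ?_) (fun x hx V W _ _ _ _ _ _ M N w h _ _ _ hχ => ?_)
    (fun x hx => (hL x hx).2.1) V M (by simpa using h) hM
  · have := h.subsingleton
    rw [Subsingleton.elim M ((1 : F) • 1)]
    exact diag_smul_one 1
  · refine h.prodMap ?_
    rw [eq_smul_of_sim_sc (sim_sc ((finrank_eq_of_charpoly hχ).trans (h1 x hx)) N)]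
    exact diag_smul_one _

theorem good_of_host [Fintype F] (hF : 3 ≤ Fintype.card F) {M : End F V} {H R : Multiset (F[X] × ℕ)}
    (hL : ValidED (R + H)) (h : Blocks M (R + H)) (hM : LinearMap.det M ≠ 0)
    (hbase : ∀ (V : Type u) [AddCommGroup V] [Module F V] [FiniteDimensional F V] (M : End F V),
      Blocks M H → LinearMap.det M ≠ 0 → Good M) : Good M := by
  have hR : ∀ x ∈ R, _ := fun x hx => hL x (Multiset.mem_add.mpr (Or.inl hx))
  exact blocks_ind (fun _ _ _ _ M => Good M) H R (fun _ _ _ _ _ _ _ _ _ _ h hs => h.of_sim hs)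
    hbase (fun x hx V W _ _ _ _ _ _ M N w h h1 _ h2 hχ =>
      h.glue (big_of_card hF) h1 h2 (hR x hx).1 (hR x hx).2.1 (hR x hx).2.2 hχ)
    (fun x hx => (hR x hx).2.1) V M h hM

theorem good_or_diag [Fintype F] (hF : 3 ≤ Fintype.card F) (hd : 3 ≤ finrank F V) {M : End F V}
    (hM : LinearMap.det M ≠ 0) : Good M ∨ Diag M := by
  obtain ⟨L, hL, h⟩ := exists_blocks M
  by_cases h3 : ∃ x ∈ L, 3 ≤ (x.1 ^ x.2).natDegree
  · obtain ⟨x, hx, h3⟩ := h3
    obtain ⟨R, rfl⟩ := exists_single hx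
    refine Or.inl (good_of_host hF hL h hM fun V _ _ _ M h hM => ?_)
    obtain ⟨⟨v, hv⟩, hχ⟩ := h.single (hL x hx).2.1
    exact good_of_cyc (finrank_eq_of_charpoly hχ ▸ h3) hv hM
  push Not at h3
  by_cases h2 : ∃ x ∈ L, (x.1 ^ x.2).natDegree = 2
  · obtain ⟨x, hx, h2⟩ := h2
    obtain ⟨y, R, rfl⟩ := exists_mem_erase hL h hx (by omega)
    have hy : y ∈ R + {x, y} := by simp
    refine Or.inl (good_of_host hF hL h hM fun V _ _ _ M h hM => ?_)
    obtain ⟨V₁, _, _, _, V₂, _, _, _, M₁, M₂, v₁, v₂, k1, k2, k3, k4, k5⟩ :=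
      h.pair (hL x hx).2.1 (hL y hy).2.1
    rw [← k5.det, LinearMap.det_prodMap] at hM
    refine Good.of_sim ?_ k5
    have d1 := finrank_eq_of_charpoly k2
    have d2 := (finrank_eq_of_charpoly k4).trans h2
    have := one_le_deg hL hy
    have := h3 y hy
    by_cases h1 : finrank F V₁ = 1
    · have : Nontrivial V₁ := Module.nontrivial_of_finrank_eq_succ h1
      exact (good₃_pair h1 k3 (hL x hx).1 (hL x hx).2.1 k4 d2 (left_ne_zero_of_mul hM)
        (right_ne_zero_of_mul hM)).good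
    · exact good_four hF k1 k3 (hL y hy).1 (hL y hy).2.1 (hL x hx).1 (hL x hx).2.1 k2 k4 (by omega)
        d2 (left_ne_zero_of_mul hM) (right_ne_zero_of_mul hM)
  · push Not at h2
    refine Or.inr (diag_of_blocks hL h hM fun x hx => ?_)
    have := one_le_deg hL hx
    have := h3 x hx
    have := h2 x hx
    omega

theorem comm_of_three_le [Fintype F] (hF : 3 ≤ Fintype.card F) (hd : 3 ≤ finrank F V) {M : End F V}
    (hM : LinearMap.det M = 1) : Comm M :=
  (good_or_diag hF hd (by simp [hM])).elim (fun h => h.comm hM) fun h => h.comm hM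

theorem exists_sq_ne_one [Fintype F] (hF : 4 ≤ Fintype.card F) : ∃ a : F, a ≠ 0 ∧ a ≠ 1 ∧ a ≠ a⁻¹ := by
  obtain ⟨a, h0, h1, h2⟩ := (big_of_card hF).exists_ne₃ 0 1 (-1)
  refine ⟨a, h0, h1, fun h => ?_⟩
  have : a * a = 1 := by nth_rw 2 [h]; exact mul_inv_cancel₀ h0
  rcases mul_self_eq_one_iff.mp this with h | h <;> contradiction

theorem comm_two [Fintype F] (hF : 4 ≤ Fintype.card F) (hd : finrank F V = 2) {M : End F V}
    (hM : LinearMap.det M = 1) : Comm M := by
  by_cases h : ∀ c : F, M ≠ c • 1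
  · obtain ⟨a, h0, -, h1⟩ := exists_sq_ne_one hF
    refine (fct_two_split hd h h1 h1 (by rw [hM, one_mul])).comm
      (simple_of_natDegree_le ((monic_X_sub_C _).mul (monic_X_sub_C _)).ne_zero
        (by rw [← quad_eq_mul, natDegree_quad]; norm_num)) (irreducible_X_sub_C a) (monic_X_sub_C a)
      (isCoprime_X_sub_C_of_isUnit_sub (sub_ne_zero.mpr h1).isUnit) ?_
    simp [hd, h0]
  · push Not at h
    obtain ⟨c, rfl⟩ := h
    exact (diag_smul_one c).comm hM

end Main

end Cfsg.Agent.Fac
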