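import Cfsg.Agent.Fac.FieldTwo

/-!
Products of two conjugates in `SL_n`; dimension three.
-/

set_option autoImplicit false

open Polynomial Module

namespace Cfsg.Agent.Fac

open Cfsg.Agent.GLn

universe u

section General
variable {F : Type*} [Field F] {V : Type*} [AddCommGroup V] [Module F V] [FiniteDimensional F V]

theorem nd_of_separable {f : End F V} (h : f.charpoly.Separable) : ND f := by
  intro c
  have h1 := (LinearMap.finrank_eigenspace_le f c).trans (rootMultiplicity_le_one_of_separable h c)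
  obtain ⟨w, hw⟩ := finrank_le_one_iff.mp h1
  refine ⟨w, fun u hu => ?_⟩
  obtain ⟨s, hs⟩ := hw ⟨u, Module.End.mem_eigenspace_iff.mpr hu⟩
  exact ⟨s, (congrArg Subtype.val hs).symm⟩

theorem simple_of_separable {χ : F[X]} (h : χ.Separable) : Simple χ := fun P hP _ hd =>
  absurd (h.squarefree P (by rwa [← sq])) hP.not_isUnit

theorem detFull_of_separable [Finite F] {f : End F V} (h : f.charpoly.Separable)
    (hd : 0 < finrank F V) : DetFull f := by
  obtain ⟨P, hP', hP, R, hR⟩ := exists_monic_irreducible_factor f.charpoly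
    (not_isUnit_of_natDegree_pos _ (by rwa [LinearMap.charpoly_natDegree]))
  exact detFull_of_simple hP hP' (hR ▸ h).isCoprime hR

variable {n : Type*} [Fintype n] [DecidableEq n]

/-- An endomorphism of determinant one as an element of `SL`. -/
noncomputable def toSL (a : End F (n → F)) (ha : LinearMap.det a = 1) :
    Matrix.SpecialLinearGroup n F :=
  ⟨LinearMap.toMatrix' a, by rw [LinearMap.det_toMatrix', ha]⟩

/-- The endomorphism of an element of `SL`. -/
def slLin : Matrix.SpecialLinearGroup n F →* End F (n → F) where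
  toFun g := Matrix.toLin' g.1
  map_one' := Matrix.toLin'_one
  map_mul' g h := Matrix.toLin'_mul g.1 h.1

theorem slLin_apply (g : Matrix.SpecialLinearGroup n F) : slLin g = Matrix.toLin' g.1 := rfl

theorem slLin_injective : Function.Injective (slLin (F := F) (n := n)) := fun _ _ h =>
  Subtype.ext (Matrix.toLin'.injective h)

@[simp] theorem slLin_toSL (a : End F (n → F)) (ha : LinearMap.det a = 1) : slLin (toSL a ha) = a :=
  Matrix.toLin'_toMatrix' a

theorem det_slLin (g : Matrix.SpecialLinearGroup n F) : LinearMap.det (slLin g) = 1 := by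
  rw [slLin_apply, LinearMap.det_toLin']; exact g.2

theorem charpoly_slLin (g : Matrix.SpecialLinearGroup n F) : (slLin g).charpoly = g.1.charpoly :=
  Matrix.charpoly_toLin' _

theorem exists_conj_of_sim {x : Matrix.SpecialLinearGroup n F} {B : End F (n → F)}
    (h : Sim (slLin x) B) (hx : DetFull (slLin x)) :
    ∃ u : Matrix.SpecialLinearGroup n F, slLin (u * x * u⁻¹) = B := by
  obtain ⟨a, ha, h⟩ := exists_det_one_of_sim h hx
  refine ⟨toSL a ha, ?_⟩
  rw [map_mul, map_mul, slLin_toSL, h, mul_assoc]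
  nth_rw 1 [← slLin_toSL a ha]
  rw [← map_mul, mul_inv_cancel, map_one, mul_one]

theorem sl_prod_of_sim {g x y : Matrix.SpecialLinearGroup n F} {B : End F (n → F)}
    (h1 : Sim (slLin x) (slLin g * B)) (h2 : Sim (slLin y⁻¹) B) (hx : DetFull (slLin x))
    (hy : DetFull (slLin y⁻¹)) :
    ∃ u v : Matrix.SpecialLinearGroup n F, g = (u * x * u⁻¹) * (v * y * v⁻¹) := by
  obtain ⟨u, hu⟩ := exists_conj_of_sim h1 hx
  obtain ⟨v, hv⟩ := exists_conj_of_sim h2 hy
  rw [← hv, ← map_mul] at hu
  exact ⟨u, v, by rw [slLin_injective hu]; group⟩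

theorem sl_prod_of_fct [Finite F] [Nonempty n] {g x y : Matrix.SpecialLinearGroup n F}
    (h : Fct (slLin g) (y⁻¹).1.charpoly x.1.charpoly) (hx : x.1.charpoly.Separable)
    (hy : (y⁻¹).1.charpoly.Separable) :
    ∃ u v : Matrix.SpecialLinearGroup n F, g = (u * x * u⁻¹) * (v * y * v⁻¹) := by
  obtain ⟨B, h1, h2, h3, h4⟩ := h
  rw [← charpoly_slLin] at hx hy h3 h4
  have hd : 0 < finrank F (n → F) := by simpa using Fintype.card_pos
  exact sl_prod_of_sim (sim_of_nd (nd_of_separable hx) h2 h4.symm (simple_of_separable hx))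
    (sim_of_nd (nd_of_separable hy) h1 h3.symm (simple_of_separable hy))
    (detFull_of_separable hx hd) (detFull_of_separable hy hd)

theorem slLin_not_scalar {g : Matrix.SpecialLinearGroup n F}
    (hg : (QuotientGroup.mk g : Matrix.ProjectiveSpecialLinearGroup n F) ≠ 1) (c : F) :
    slLin g ≠ c • 1 := fun h => hg ((psl_mk_eq_one_iff g).mpr ⟨c, Matrix.toLin'.injective (by
      rw [← slLin_apply, h, Algebra.algebraMap_eq_smul_one, map_smul, Matrix.toLin'_one]; rfl)⟩)

/-- Sourour's theorem in dimension three, distinct eigenvalues. -/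
theorem fct_three_split (hd : finrank F V = 3) {M : End F V} (hM : ∀ c : F, M ≠ c • 1)
    {a b c x y z : F} (ha : a ≠ 0) (hx : x ≠ 0) (hab : a ≠ b) (hac : a ≠ c) (hbc : b ≠ c)
    (hxy : x ≠ y) (hxz : x ≠ z) (hyz : y ≠ z) (h0 : LinearMap.det M ≠ 0)
    (h : LinearMap.det M * (a * (b * c)) = x * (y * z)) :
    Fct M ((X - C a) * ((X - C b) * (X - C c))) ((X - C x) * ((X - C y) * (X - C z))) := by
  obtain ⟨v, φ, h1, h2, h3, h4⟩ := exists_schur_not_scalar hd.ge hM (injective_of_det h0)
    (div_ne_zero hx ha)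
  have hd' : finrank F (LinearMap.ker φ) = 2 := by
    have := finrank_ker_add_one v φ h1; omega
  have e1 := det_schur M v φ h1 h2
  have e2 : φ (M v) * a = x := by rw [h3]; field_simp
  have := fct_of_schur M v φ h1 h2 ha (fct_two_split hd' h4 hbc hyz (by
    apply mul_left_cancel₀ hx
    rw [← h, e1, ← e2]; ring)) (by simp [sub_eq_zero, hab, hac])
    (by rw [e2]; simp [sub_eq_zero, hxy, hxz])
  rwa [e2] at this

end General

section Main
variable {F : Type u} [Field F] {V : Type u} [AddCommGroup V] [Module F V] [FiniteDimensional F V]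

theorem three_cases (hd : finrank F V = 3) {M : End F V} (hM : LinearMap.det M ≠ 0) :
    (∃ v, Cyc M v) ∨ (∃ l : F, Sim ((sc l).prodMap (jb l)) M) ∨ Diag M := by
  obtain ⟨L, hL, h⟩ := exists_blocks M
  by_cases h2 : ∃ x ∈ L, 2 ≤ (x.1 ^ x.2).natDegree
  · obtain ⟨x, hx, h2⟩ := h2
    obtain ⟨L', rfl⟩ := Multiset.exists_cons_of_mem hx
    obtain ⟨V₁, _, _, _, V₂, _, _, _, M₁, M₂, v, k1, k2, k3, k4⟩ := h.cons (hL x hx).2.1
    have d1 := k4.finrank
    have d2 := finrank_eq_of_charpoly k3
    rw [finrank_prod] at d1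
    by_cases h1 : finrank F V₁ = 1
    · by_cases h5 : M₂.charpoly.eval (LinearMap.det M₁) = 0
      · rw [k3] at h5
        have hs := sim_jb k2 (k3.trans (primary_eq_of_root (hL x hx).1 (hL x hx).2.1 h5 (by omega)))
        exact Or.inr (Or.inl ⟨_, ((sim_sc h1 M₁).prodMap hs).symm.trans k4⟩)
      · have hv : Cyc (sc (LinearMap.det M₁)) 1 := fun x => ⟨C x, by simp⟩
        have := hv.prodMap k2 (by
          rw [charpoly_sc]
          exact (irreducible_X_sub_C _).coprime_iff_not_dvd.mpr fun hd => h5 (dvd_iff_isRoot.mp hd))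
        exact Or.inl (this.of_sim (((sim_sc h1 M₁).prodMap (Sim.refl M₂)).symm.trans k4))
    · have : Subsingleton V₁ := (finrank_zero_iff (R := F)).mp (by omega)
      exact Or.inl (k2.of_sim ((sim_prodMap_subsingleton M₁ M₂).symm.trans k4))
  · push Not at h2
    refine Or.inr (Or.inr (diag_of_blocks hL h hM fun x hx => ?_))
    have := one_le_deg hL hx
    have := h2 x hx
    omega

end Main

end Cfsg.Agent.Fac
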