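import Cfsg.Agent.Fac.LU
import Cfsg.Agent.SL2.Torus

/-!
Factorisations in dimension two; Sourour's step.
-/

set_option autoImplicit false

open Polynomial Module

namespace Cfsg.Agent.Fac

open Cfsg.Agent.GLn

variable {F : Type*} [Field F] {V : Type*} [AddCommGroup V] [Module F V]

/-- The quadratic `X² - t X + d`. -/
noncomputable def quad (t d : F) : F[X] := X ^ 2 - C t * X + C d

theorem eval_quad (t d x : F) : (quad t d).eval x = x ^ 2 - t * x + d := by simp [quad]

theorem natDegree_quad (t d : F) : (quad t d).natDegree = 2 := by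
  unfold quad; compute_degree!

theorem monic_quad (t d : F) : (quad t d).Monic := by
  unfold quad; monicity!

theorem coeff_zero_quad (t d : F) : (quad t d).coeff 0 = d := by simp [quad]

theorem quad_inj {t d t' d' : F} (h : quad t d = quad t' d') : t = t' ∧ d = d' := by
  have h0 := congrArg (eval 0) h
  have h1 := congrArg (eval 1) h
  simp only [eval_quad] at h0 h1
  exact ⟨by linear_combination h0 - h1, by linear_combination h0⟩

theorem quad_eq_mul (a b : F) : quad (a + b) (a * b) = (X - C a) * (X - C b) := by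
  simp only [quad, map_add, map_mul]; ring

theorem eq_quad {f : F[X]} (hf : f.Monic) (h2 : f.natDegree = 2) :
    f = quad (-f.coeff 1) (f.coeff 0) := by
  have h3 : f.coeff 2 = 1 := by rw [← h2]; exact hf
  conv_lhs => rw [f.as_sum_range_C_mul_X_pow, h2]
  simp [Finset.sum_range_succ, quad, h3]
  ring

theorem irreducible_quad {t d : F} (h : SL2.Ell t d) : Irreducible (quad t d) := by
  refine (irreducible_iff_roots_eq_zero_of_degree_le_three (by rw [natDegree_quad])
    (by rw [natDegree_quad]; norm_num)).mpr ?_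
  refine Multiset.eq_zero_of_forall_notMem fun r hr => h r ?_
  have := (mem_roots (monic_quad t d).ne_zero).mp hr
  rw [IsRoot, eval_quad] at this
  linear_combination this

theorem ell_eval_ne {t d : F} (h : SL2.Ell t d) (x : F) : (quad t d).eval x ≠ 0 := by
  rw [eval_quad]; intro hx; exact h x (by linear_combination hx)

theorem simple_of_natDegree_le {χ : F[X]} (h0 : χ ≠ 0) (h : χ.natDegree ≤ 3) : Simple χ := by
  intro P hP _ hd
  have h1 := natDegree_le_of_dvd hd h0
  have h2 := hP.natDegree_pos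
  rw [natDegree_pow] at h1
  omega

variable [FiniteDimensional F V]

theorem charpoly_two (hd : finrank F V = 2) (f : End F V) :
    f.charpoly = quad (LinearMap.trace F V f) (LinearMap.det f) := by
  obtain ⟨A, hA⟩ := exists_matrix_sim (n := Fin 2) f (by simp [hd])
  rw [← hA.charpoly, ← hA.trace, ← hA.det, Matrix.charpoly_toLin', Matrix.charpoly_fin_two,
    LinearMap.det_toLin', Matrix.trace_toLin'_eq, quad]

theorem cayley_two (hd : finrank F V = 2) (f : End F V) (v : V) :
    f (f v) = LinearMap.trace F V f • f v - LinearMap.det f • v := by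
  have := LinearMap.congr_fun (LinearMap.aeval_self_charpoly f) v
  rw [charpoly_two hd] at this
  simp only [quad, map_add, map_sub, aeval_X, map_mul, aeval_C, LinearMap.add_apply,
    LinearMap.sub_apply, End.mul_apply, Module.algebraMap_end_apply, LinearMap.zero_apply, sq] at this
  rw [← sub_eq_zero, ← this]; abel

omit [FiniteDimensional F V] in
theorem cyc_two (hd : finrank F V = 2) {M : End F V} {v : V} (hv : v ≠ 0) (h : ∀ s : F, M v ≠ s • v) :
    Cyc M v := by
  rw [cyc_iff]
  intro U hU hM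
  have hli : LinearIndependent F ![v, M v] :=
    (LinearIndependent.pair_iff' hv).mpr fun s hs => h s hs.symm
  have h1 : Submodule.span F (Set.range ![v, M v]) = ⊤ :=
    hli.span_eq_top_of_card_eq_finrank (by simp [hd])
  refine eq_top_iff.mpr (h1 ▸ Submodule.span_le.mpr ?_)
  rintro _ ⟨i, rfl⟩
  fin_cases i
  · exact hU
  · exact hM _ hU

theorem nd_two (hd : finrank F V = 2) {M : End F V} (h : ∀ c : F, M ≠ c • 1) : ND M := by
  obtain ⟨v, hv, h⟩ := exists_not_eigen h
  exact (cyc_two hd hv h).nd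

theorem not_scalar_of_disc (hd : finrank F V = 2) {M : End F V} {t d : F}
    (h : M.charpoly = quad t d) (hD : t ^ 2 ≠ 4 * d) (c : F) : M ≠ c • 1 := by
  rintro rfl
  rw [charpoly_two hd] at h
  obtain ⟨rfl, rfl⟩ := quad_inj h
  apply hD
  simp [hd]
  ring

theorem sim_two {W : Type*} [AddCommGroup W] [Module F W] [FiniteDimensional F W]
    (hd : finrank F V = 2) {M : End F V} {N : End F W} (hM : ∀ c : F, M ≠ c • 1)
    (hN : ∀ c : F, N ≠ c • 1) (h : M.charpoly = N.charpoly) : Sim M N := by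
  have hd' : finrank F W = 2 := by
    rw [← LinearMap.charpoly_natDegree N, ← h, LinearMap.charpoly_natDegree, hd]
  exact sim_of_nd (nd_two hd hM) (nd_two hd' hN) h
    (simple_of_natDegree_le (LinearMap.charpoly_monic _).ne_zero
      (by rw [LinearMap.charpoly_natDegree, hd]; norm_num))

theorem charpoly_toLin_two (a b c d : F) :
    (Matrix.toLin' !![a, b; c, d]).charpoly = quad (a + d) (a * d - b * c) := by
  rw [Matrix.charpoly_toLin', Matrix.charpoly_fin_two, quad]
  simp [Matrix.trace_fin_two, Matrix.det_fin_two]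

theorem exists_factor_two (hd : finrank F V = 2) {M : End F V} (hM : ∀ c : F, M ≠ c • 1)
    {t d : F} (hχ : M.charpoly = quad t d) {s δ s' e z : F}
    (h : e ^ 2 - t * e * z + d * z ^ 2 - s * e + s' * z + δ = 0) :
    ∃ B : End F V, B.charpoly = quad s δ ∧ (M * B).charpoly = quad s' (d * δ) := by
  have hs : Sim (Matrix.toLin' !![0, -d; 1, t]) M := by
    refine (sim_two hd hM (fun c hc => ?_) ?_).symm
    · have := congrFun (LinearMap.congr_fun hc ![1, 0]) 1
      simp at this
    · rw [hχ, charpoly_toLin_two]; simp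
  obtain ⟨E, rfl⟩ := hs
  refine ⟨E.conjAlgEquiv F (Matrix.toLin' !![s - e, s' + d * z - t * e; z, e]), ?_, ?_⟩
  · rw [← Sim.charpoly ⟨E, rfl⟩, charpoly_toLin_two]
    congr 1
    · ring
    · linear_combination -h
  · rw [← map_mul, ← Sim.charpoly ⟨E, rfl⟩, End.mul_eq_comp, ← Matrix.toLin'_mul,
      Matrix.mul_fin_two, charpoly_toLin_two]
    congr 1
    · ring
    · linear_combination -d * h

theorem fct_two (hd : finrank F V = 2) {M : End F V} (hM : ∀ c : F, M ≠ c • 1)
    {t d : F} (hχ : M.charpoly = quad t d) {s δ s' : F}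
    (h : ∃ e z, e ^ 2 - t * e * z + d * z ^ 2 - s * e + s' * z + δ = 0)
    (h1 : s ^ 2 ≠ 4 * δ) (h2 : s' ^ 2 ≠ 4 * (d * δ)) : Fct M (quad s δ) (quad s' (d * δ)) := by
  obtain ⟨e, z, h⟩ := h
  obtain ⟨B, hB, hX⟩ := exists_factor_two hd hM hχ h
  exact ⟨B, nd_two hd (not_scalar_of_disc hd hB h1), nd_two hd (not_scalar_of_disc hd hX h2), hB, hX⟩

theorem conic_of_disc [Finite F] {t d : F} (ht : t ^ 2 ≠ 4 * d) (s δ s' : F) :
    ∃ e z, e ^ 2 - t * e * z + d * z ^ 2 - s * e + s' * z + δ = 0 := by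
  have h4 : 4 * d - t ^ 2 ≠ 0 := sub_ne_zero.2 (Ne.symm ht)
  obtain ⟨D, hD⟩ : ∃ D, D * (4 * d - t ^ 2) = 1 := ⟨_, inv_mul_cancel₀ h4⟩
  set e0 := (2 * d * s - t * s') * D with he0
  set z0 := (t * s - 2 * s') * D with hz0
  have e1 : 2 * e0 - t * z0 = s := by rw [he0, hz0]; linear_combination s * hD
  have e2 : 2 * d * z0 - t * e0 = -s' := by rw [he0, hz0]; linear_combination -s' * hD
  obtain ⟨x, y, hxy⟩ := SL2.norm_surj (t := -t) (d := d) (by simpa using ht)
    (-(e0 ^ 2 - t * e0 * z0 + d * z0 ^ 2 - s * e0 + s' * z0 + δ))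
  exact ⟨e0 + x, z0 + y, by linear_combination hxy + x * e1 + y * e2⟩

theorem conic_of_par {l s δ s' : F} (h : s' ≠ s * l) :
    ∃ e z, e ^ 2 - (l + l) * e * z + (l * l) * z ^ 2 - s * e + s' * z + δ = 0 := by
  obtain ⟨D, hD⟩ : ∃ D, D * (s' - s * l) = 1 := ⟨_, inv_mul_cancel₀ (sub_ne_zero.mpr h)⟩
  exact ⟨l * (-δ * D), -δ * D, by linear_combination -δ * hD⟩

theorem conic_of_root (t d a b s' : F) :
    ∃ e z, e ^ 2 - t * e * z + d * z ^ 2 - (a + b) * e + s' * z + a * b = 0 :=
  ⟨a, 0, by ring⟩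

/-- Factorisation of a non-scalar map of the plane with prescribed distinct eigenvalues. -/
theorem fct_two_split (hd : finrank F V = 2) {M : End F V} (hM : ∀ c : F, M ≠ c • 1) {a b x y : F}
    (hab : a ≠ b) (hxy : x ≠ y) (h : LinearMap.det M * (a * b) = x * y) :
    Fct M ((X - C a) * (X - C b)) ((X - C x) * (X - C y)) := by
  rw [← quad_eq_mul, ← quad_eq_mul, ← h]
  refine fct_two hd hM (charpoly_two hd M) (conic_of_root _ _ _ _ _) (fun h1 => ?_) (fun h1 => ?_)
  · exact hab (sub_eq_zero.mp (pow_eq_zero_iff two_ne_zero |>.mp (by linear_combination h1)))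
  · rw [h] at h1
    exact hxy (sub_eq_zero.mp (pow_eq_zero_iff two_ne_zero |>.mp (by linear_combination h1)))

omit [FiniteDimensional F V] in
/-- Sourour's step. -/
theorem exists_schur_not_scalar (hd : 3 ≤ finrank F V) {M : End F V} (hM : ∀ c : F, M ≠ c • 1)
    (hinj : Function.Injective M) {α : F} (hα : α ≠ 0) :
    ∃ (v : V) (φ : V →ₗ[F] F) (_ : φ v = 1) (h0 : φ (M v) ≠ 0), φ (M v) = α ∧
      ∀ c : F, schur M v φ h0 ≠ c • 1 := by
  obtain ⟨v, hv, h⟩ := exists_not_eigen hM
  obtain ⟨z, hz⟩ : ∃ z, ∀ s t : F, z ≠ s • v + t • M v := by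
    by_contra hc
    push Not at hc
    have : Submodule.span F {v, M v} = ⊤ := eq_top_iff.mpr fun z _ => by
      obtain ⟨s, t, h⟩ := hc z
      exact Submodule.mem_span_pair.mpr ⟨s, t, h.symm⟩
    have h2 := finrank_span_pair_le (F := F) v (M v)
    rw [this, finrank_top] at h2
    omega
  have key : ∀ (φ : V →ₗ[F] F) (h1 : φ v = 1) (h0 : φ (M v) ≠ 0) (c : F),
      schur M v φ h0 = c • 1 → ∀ x, ∃ r : F, M (x - φ x • v) = c • (x - φ x • v) + r • M v := by
    intro φ h1 h0 c hc x
    have := congrArg Subtype.val (LinearMap.congr_fun hc (sproj v φ h1 x))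
    rw [schur_val, sub_eq_iff_eq_add] at this
    exact ⟨_, by simpa using this⟩
  obtain ⟨φ, h1, h2, h3⟩ := exists_fun₃ hv h hz 1 α 0
  obtain ⟨ψ, k1, k2, k3⟩ := exists_fun₃ hv h hz 1 α 1
  by_contra hc
  push Not at hc
  obtain ⟨c, hc1⟩ := hc v φ h1 (h2 ▸ hα) h2
  obtain ⟨c', hc2⟩ := hc v ψ k1 (k2 ▸ hα) k2
  have indep : ∀ s t : F, s • v + t • M v = 0 → s = 0 := by
    intro s t hst
    by_contra hs
    by_cases ht : t = 0
    · rw [ht, zero_smul, add_zero] at hst
      exact hv ((smul_eq_zero.mp hst).resolve_left hs)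
    · apply h (-s / t)
      have : t • M v = (-s) • v := by rw [neg_smul]; exact eq_neg_of_add_eq_zero_right hst
      rw [div_eq_inv_mul, mul_smul, ← this, smul_smul, inv_mul_cancel₀ ht, one_smul]
  obtain ⟨r1, e1⟩ := key φ h1 _ c hc1 (M v)
  obtain ⟨r2, e2⟩ := key ψ k1 _ c' hc2 (M v)
  rw [h2] at e1
  rw [k2] at e2
  have hcc : c = c' := by
    have := indep ((c' - c) * α) (c - c' + r1 - r2) (by
      have := e1.symm.trans e2
      rw [← sub_eq_zero] at this
      rw [← this]; module)
    exact (sub_eq_zero.mp ((mul_eq_zero.mp this).resolve_right hα)).symm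
  subst hcc
  obtain ⟨r3, e3⟩ := key φ h1 _ c hc1 z
  obtain ⟨r4, e4⟩ := key ψ k1 _ c hc2 z
  rw [h3, zero_smul, sub_zero] at e3
  rw [k3, one_smul, map_sub, e3] at e4
  have hc0 : c = 0 := indep c (r3 - 1 - r4) (by
    rw [← sub_eq_zero] at e4
    rw [← e4]; module)
  rw [hc0, zero_smul, zero_add, ← map_smul] at e3
  exact hz r3 0 (by simpa using hinj e3)

end Cfsg.Agent.Fac
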